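/-
Sp_4(p): the normaliser of the group of symplectic type is maximal, through the five-dimensional orthogonal action
on the self-adjoint matrices of trace zero.
-/
import Cfsg.Agent.Lib.Classical22.SympTypeFour.Normal
import Cfsg.Agent.Lib.Classical22.Frame.Full
import Cfsg.Agent.Lib.Classical.SpSimple
import Cfsg.Agent.Lib.Transvec.Symplectic

set_option autoImplicit false
set_option linter.all false

namespace CfsgLib.SpFourOdd

open Cfsg CfsgLib.Classical CfsgLib.Classical22
open CfsgLib.Classical22.SympTypeFour (Setting)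
open scoped Matrix MatrixGroups

local notation "Ix" => (Fin 2 ⊕ Fin 2)

variable {F : Type*} [Field F]

/-- Self-adjoint matrices for the standard alternating form. -/
def Sad (X : Matrix Ix Ix F) : Prop := Xᵀ * Matrix.J (Fin 2) F = Matrix.J (Fin 2) F * X

theorem sp_matrix {g : GL Ix F} (hg : g ∈ Cfsg.spGL 2 F) :
    (g : Matrix Ix Ix F)ᵀ * Matrix.J (Fin 2) F * (g : Matrix Ix Ix F) = Matrix.J (Fin 2) F :=
  SymplecticGroup.mem_iff'.1 (CfsgLib.Classical.mem_sp_iff.2 hg)

theorem sp_transpose {g : GL Ix F} (hg : g ∈ Cfsg.spGL 2 F) :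
    (g : Matrix Ix Ix F)ᵀ * Matrix.J (Fin 2) F = Matrix.J (Fin 2) F * ((g⁻¹ : GL Ix F) : Matrix Ix Ix F) := by
  have h := congrArg (fun M => M * ((g⁻¹ : GL Ix F) : Matrix Ix Ix F)) (sp_matrix hg)
  simpa only [mul_assoc, ← Units.val_mul, mul_inv_cancel, Units.val_one, mul_one] using h

theorem Sad.conj {g : GL Ix F} (hg : g ∈ Cfsg.spGL 2 F) {X : Matrix Ix Ix F} (hX : Sad X) :
    Sad ((g : Matrix Ix Ix F) * X * ((g⁻¹ : GL Ix F) : Matrix Ix Ix F)) := by
  have h2 := sp_transpose (inv_mem hg)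
  rw [inv_inv] at h2
  unfold Sad at hX ⊢
  rw [Matrix.transpose_mul, Matrix.transpose_mul, mul_assoc, mul_assoc, sp_transpose hg, ← mul_assoc Xᵀ, hX,
    ← mul_assoc, ← mul_assoc, h2]
  simp only [mul_assoc]

theorem sad_invol {g : GL Ix F} (hg : g ∈ Cfsg.spGL 2 F) (h : g * g = 1) : Sad (g : Matrix Ix Ix F) := by
  have h' := sp_transpose hg
  rwa [inv_eq_of_mul_eq_one_right h] at h'

theorem trace_anti (h2 : (2 : F) ≠ 0) {g : GL Ix F} (hg : g ∈ Cfsg.spGL 2 F) (h : g * g = -1)
    {X : Matrix Ix Ix F} (hX : Sad X) : Matrix.trace (X * (g : Matrix Ix Ix F)) = 0 := by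
  obtain ⟨J, hJd⟩ : ∃ J, J = Matrix.J (Fin 2) F := ⟨_, rfl⟩
  have hJ : J * J = -1 := hJd ▸ Matrix.J_squared _ _
  have h1 : (g : Matrix Ix Ix F)ᵀ * J = -(J * (g : Matrix Ix Ix F)) := by
    rw [hJd, sp_transpose hg, show g⁻¹ = -g from inv_eq_of_mul_eq_one_right (by rw [mul_neg, h, neg_neg]),
      Units.val_neg, mul_neg]
  have hgT : (g : Matrix Ix Ix F)ᵀ = J * (g : Matrix Ix Ix F) * J := by
    have h3 := congrArg (fun M => M * J) h1
    simp only [mul_assoc, hJ, mul_neg, mul_one, neg_mul] at h3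
    exact (neg_injective h3).trans (mul_assoc _ _ _).symm
  have hXT : Xᵀ = -(J * X * J) := by
    have h3 := congrArg (fun M => M * J) (hJd ▸ hX : Xᵀ * J = J * X)
    simp only [mul_assoc, hJ, mul_neg, mul_one] at h3
    rw [mul_assoc, ← h3, neg_neg]
  have h4 : (X * (g : Matrix Ix Ix F))ᵀ = J * ((g : Matrix Ix Ix F) * X * J) := by
    rw [Matrix.transpose_mul, hgT, hXT, mul_neg,
      show J * (g : Matrix Ix Ix F) * J * (J * X * J) = J * (g : Matrix Ix Ix F) * (J * J) * X * J by
        simp only [mul_assoc], hJ, mul_neg, mul_one, neg_mul, neg_mul, neg_neg]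
    simp only [mul_assoc]
  have h5 := Matrix.trace_transpose (X * (g : Matrix Ix Ix F))
  rw [h4, Matrix.trace_mul_comm, mul_assoc, hJ, mul_neg, mul_one, Matrix.trace_neg, Matrix.trace_mul_comm] at h5
  exact (mul_eq_zero.1 (show (2 : F) * Matrix.trace (X * (g : Matrix Ix Ix F)) = 0 by
    linear_combination -h5)).resolve_left h2

variable [Fintype F]

/-- The data attached to a group of symplectic type of minus type. -/
structure Cx (R : Subgroup (GL Ix F)) (e : Fin 5 → GL Ix F) : Prop where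
  two : (2 : F) ≠ 0
  set : Setting R
  fr : SympTypeFour.Frame R e
  le : R ≤ Cfsg.spGL 2 F
  card : Nat.card R = 32
  cen : Nat.card (Subgroup.center R) = 2

variable {R : Subgroup (GL Ix F)} {e : Fin 5 → GL Ix F}

theorem Cx.sp (C : Cx R e) (i : Fin 5) : e i ∈ Cfsg.spGL 2 F := C.le (C.fr.mem i)

theorem Cx.val_sq (C : Cx R e) (i : Fin 5) : (e i : Matrix Ix Ix F) * (e i : Matrix Ix Ix F) = 1 :=
  SympTypeFour.val_sq_one (C.fr.sq i)

theorem Cx.val_anti (C : Cx R e) {i j : Fin 5} (h : i ≠ j) :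
    (e i : Matrix Ix Ix F) * (e j : Matrix Ix Ix F) = -((e j : Matrix Ix Ix F) * (e i : Matrix Ix Ix F)) :=
  SympTypeFour.val_eq (C.fr.anti i j h)

theorem Cx.four (C : Cx R e) : (4 : F) ≠ 0 := fun h => mul_ne_zero C.two C.two (by linear_combination h)

theorem Cx.central (C : Cx R e) {r : GL Ix F} (hr : r ∈ R) (h : ∀ i, r * e i = e i * r) : r = 1 ∨ r = -1 := by
  have hrc : (⟨r, hr⟩ : R) ∈ Subgroup.center R :=
    (SympTypeFour.center_val r hr).2 fun y hy => C.fr.gen y hy r h
  have hnc : (⟨-1, C.set.neg⟩ : R) ∈ Subgroup.center R :=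
    (SympTypeFour.center_val _ C.set.neg).2 fun y _ => by rw [neg_one_mul, mul_neg_one]
  obtain ⟨a, b, -, hab⟩ := Nat.card_eq_two_iff.1 C.cen
  have hmem : ∀ z : Subgroup.center R, z = a ∨ z = b := fun z => by
    have : z ∈ ({a, b} : Set (Subgroup.center R)) := hab ▸ Set.mem_univ z
    simpa using this
  have hne : (⟨⟨-1, C.set.neg⟩, hnc⟩ : Subgroup.center R) ≠ 1 := fun h' =>
    SympTypeFour.neg_one_ne (ι := Ix) C.two (congrArg (fun z : Subgroup.center R => ((z : R) : GL Ix F)) h')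
  by_contra hcon
  push Not at hcon
  have h1 : (⟨⟨r, hr⟩, hrc⟩ : Subgroup.center R) ≠ 1 := fun h' =>
    hcon.1 (congrArg (fun z : Subgroup.center R => ((z : R) : GL Ix F)) h')
  have h2 : (⟨⟨r, hr⟩, hrc⟩ : Subgroup.center R) ≠ ⟨⟨-1, C.set.neg⟩, hnc⟩ := fun h' =>
    hcon.2 (congrArg (fun z : Subgroup.center R => ((z : R) : GL Ix F)) h')
  rcases hmem 1 with p | p <;> rcases hmem ⟨⟨-1, C.set.neg⟩, hnc⟩ with q | q <;>
    rcases hmem ⟨⟨r, hr⟩, hrc⟩ with s | s <;>
    first
      | exact hne (q.trans p.symm)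
      | exact h1 (s.trans p.symm)
      | exact h2 (s.trans q.symm)

omit [Fintype F] in
theorem sign_mul {x y z : Matrix Ix Ix F} {a b : F} (hx : x * z = a • (z * x)) (hy : y * z = b • (z * y)) :
    x * y * z = (a * b) • (z * (x * y)) := by
  rw [mul_assoc, hy, mul_smul_comm, ← mul_assoc, hx, smul_mul_assoc, smul_smul, mul_comm b, mul_assoc z]

omit [Fintype F] in
theorem sign_mul' {x y z : Matrix Ix Ix F} {a b : F} (hx : z * x = a • (x * z)) (hy : z * y = b • (y * z)) :
    z * (x * y) = (a * b) • (x * y * z) := by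
  rw [← mul_assoc, hx, smul_mul_assoc, mul_assoc, hy, mul_smul_comm, smul_smul, ← mul_assoc]

/-- The product of all five involutions. -/
theorem Cx.sign_prod (C : Cx R e) {r : GL Ix F} (hr : r ∈ R) {ε : Fin 5 → F}
    (hε : ∀ i, (r : Matrix Ix Ix F) * (e i : Matrix Ix Ix F) = ε i • ((e i : Matrix Ix Ix F) * (r : Matrix Ix Ix F))) :
    ε 0 * ε 1 * ε 2 * ε 3 * ε 4 = 1 := by
  obtain ⟨P, hP⟩ : ∃ P, P = e 0 * e 1 * e 2 * e 3 * e 4 := ⟨_, rfl⟩
  have push : ∀ (s : GL Ix F) (δ : Fin 5 → F),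
      (∀ i, (s : Matrix Ix Ix F) * (e i : Matrix Ix Ix F) = δ i • ((e i : Matrix Ix Ix F) * (s : Matrix Ix Ix F))) →
      (s : Matrix Ix Ix F) * (P : Matrix Ix Ix F) =
        (δ 0 * δ 1 * δ 2 * δ 3 * δ 4) • ((P : Matrix Ix Ix F) * (s : Matrix Ix Ix F)) := fun s δ h => by
    rw [hP]
    simp only [Units.val_mul]
    exact sign_mul' (sign_mul' (sign_mul' (sign_mul' (h 0) (h 1)) (h 2)) (h 3)) (h 4)
  have hc : ∀ k, P * e k = e k * P := fun k => by
    refine Units.ext ?_
    rw [Units.val_mul, Units.val_mul]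
    have h := push (e k) (fun i => if k = i then 1 else -1) fun i => by
      split_ifs with hki
      · rw [hki, one_smul]
      · rw [neg_one_smul, C.val_anti hki]
    have h1 : ((if k = (0 : Fin 5) then (1 : F) else -1) * (if k = 1 then 1 else -1) * (if k = 2 then 1 else -1) *
        (if k = 3 then 1 else -1) * (if k = 4 then 1 else -1)) = 1 := by
      fin_cases k <;> simp
    rw [h1, one_smul] at h
    exact h.symm
  have hrP := push r ε hε
  rw [show (r : Matrix Ix Ix F) * (P : Matrix Ix Ix F) = (P : Matrix Ix Ix F) * (r : Matrix Ix Ix F) from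
    congrArg Units.val (C.fr.gen r hr P hc).symm] at hrP
  have h3 := congrArg (fun M => M * (((P * r)⁻¹ : GL Ix F) : Matrix Ix Ix F)) hrP
  simp only [smul_mul_assoc, ← Units.val_mul, mul_inv_cancel, Units.val_one] at h3
  exact SympTypeFour.scalar_inj (ι := Ix) (h3.symm.trans (one_smul F _).symm)

theorem even_cases : ∀ D : Finset (Fin 5), D.card % 2 = 0 →
    D = ∅ ∨ (∃ i j, i ≠ j ∧ D = {i, j}) ∨ ∃ i, D = Finset.univ.erase i := by decide

/-- The elements of the group of symplectic type. -/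
theorem Cx.classify (C : Cx R e) {r : GL Ix F} (hr : r ∈ R) :
    (r = 1 ∨ r = -1) ∨ (∃ i, r = e i ∨ r = -e i) ∨ ∃ i j, i ≠ j ∧ (r = e i * e j ∨ r = -(e i * e j)) := by
  classical
  obtain ⟨D, hD⟩ : ∃ D : Finset (Fin 5), D = Finset.univ.filter fun i => ¬ r * e i = e i * r := ⟨_, rfl⟩
  obtain ⟨ε, hεd⟩ : ∃ ε : Fin 5 → F, ∀ i, ε i = if i ∈ D then -1 else 1 := ⟨fun i => _, fun i => rfl⟩
  have hε : ∀ i, (r : Matrix Ix Ix F) * (e i : Matrix Ix Ix F) =
      ε i • ((e i : Matrix Ix Ix F) * (r : Matrix Ix Ix F)) := fun i => by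
    rw [hεd]
    split_ifs with hi
    · rw [neg_one_smul]
      exact SympTypeFour.val_eq ((C.set.comm r hr _ (C.fr.mem i)).resolve_left (by simpa [hD] using hi))
    · rw [one_smul, ← Units.val_mul, ← Units.val_mul]
      exact congrArg Units.val (by simpa [hD] using hi)
  have hev : D.card % 2 = 0 := by
    have h : (∏ i, ε i) = (-1) ^ D.card := by
      simp only [hεd]
      rw [Finset.prod_ite, Finset.prod_const, Finset.prod_const, one_pow, mul_one]
      congr 1
      simp [Finset.filter_mem_eq_inter]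
    rw [Fin.prod_univ_five, C.sign_prod hr hε] at h
    rcases Nat.even_or_odd D.card with he | ho
    · exact Nat.even_iff.1 he
    · exact absurd (h.trans ho.neg_one_pow).symm (Frame.neg_one_ne_one C.two)
  -- multiplying by the standard element with the same signs
  have key : ∀ w ∈ R, (∀ k, (w : Matrix Ix Ix F) * (e k : Matrix Ix Ix F) =
      ε k • ((e k : Matrix Ix Ix F) * (w : Matrix Ix Ix F))) → r * w = 1 ∨ r * w = -1 := fun w hw hwe =>
    C.central (mul_mem hr hw) fun k => Units.ext (by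
      have h := sign_mul (hε k) (hwe k)
      rw [show ε k * ε k = 1 by rw [hεd]; split_ifs <;> ring, one_smul] at h
      rw [Units.val_mul, Units.val_mul, Units.val_mul, Units.val_mul]
      exact h)
  have hsign : ∀ i k, (e i : Matrix Ix Ix F) * (e k : Matrix Ix Ix F) =
      (if k = i then (1 : F) else -1) • ((e k : Matrix Ix Ix F) * (e i : Matrix Ix Ix F)) := fun i k => by
    split_ifs with h
    · rw [h, one_smul]
    · rw [neg_one_smul, C.val_anti (Ne.symm h)]
  rcases even_cases D hev with h | ⟨i, j, hij, h⟩ | ⟨i, h⟩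
  · refine Or.inl (C.central hr fun k => ?_)
    have : k ∉ D := by simp [h]
    simpa [hD] using this
  · refine Or.inr (Or.inr ⟨i, j, hij, ?_⟩)
    have h1 := key (e i * e j) (mul_mem (C.fr.mem i) (C.fr.mem j)) fun k => by
      rw [Units.val_mul, sign_mul (hsign i k) (hsign j k)]
      congr 1
      rw [hεd, h]
      by_cases hki : k = i
      · subst hki; simp [hij]
      by_cases hkj : k = j
      · subst hkj; simp [hki]
      simp [hki, hkj]
    have h4 : e i * e j * (e i * e j) = -1 := by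
      rw [SympTypeFour.sq_mul_anti (C.fr.anti i j hij), C.fr.sq i, C.fr.sq j, mul_one]
    rcases h1 with h1 | h1
    · exact Or.inr (mul_right_cancel (b := e i * e j) (by rw [h1, neg_mul, h4, neg_neg]))
    · exact Or.inl (mul_right_cancel (b := e i * e j) (by rw [h1, h4]))
  · refine Or.inr (Or.inl ⟨i, ?_⟩)
    have h1 := key (e i) (C.fr.mem i) fun k => by
      rw [hsign i k]
      congr 1
      rw [hεd, h]
      by_cases hki : k = i <;> simp [hki]
    rcases h1 with h1 | h1
    · exact Or.inl (mul_right_cancel (b := e i) (by rw [h1, C.fr.sq i]))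
    · exact Or.inr (mul_right_cancel (b := e i) (by rw [h1, neg_mul, C.fr.sq i]))

theorem Cx.trace_e (C : Cx R e) (i : Fin 5) : Matrix.trace (e i : Matrix Ix Ix F) = 0 := by
  refine SympTypeFour.trace_zero C.two C.set (C.fr.mem i) fun h => ?_
  have hj : i + 1 ≠ i := (show ∀ k : Fin 5, k + 1 ≠ k by decide) i
  exact SympTypeFour.neg_ne_self C.two _ ((C.fr.anti _ _ hj).symm.trans (h _ (C.fr.mem _)).symm)

theorem Cx.trace_ee (C : Cx R e) (i j : Fin 5) :
    Matrix.trace ((e i : Matrix Ix Ix F) * (e j : Matrix Ix Ix F)) = if i = j then 4 else 0 := by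
  split_ifs with h
  · rw [h, C.val_sq, Matrix.trace_one]
    simp
  · have h1 : Matrix.trace ((e i : Matrix Ix Ix F) * (e j : Matrix Ix Ix F)) =
        -Matrix.trace ((e i : Matrix Ix Ix F) * (e j : Matrix Ix Ix F)) := by
      conv_lhs => rw [C.val_anti h, Matrix.trace_neg, Matrix.trace_mul_comm]
    exact (mul_eq_zero.1 (show (2 : F) * Matrix.trace ((e i : Matrix Ix Ix F) * (e j : Matrix Ix Ix F)) = 0 by
      linear_combination h1)).resolve_left C.two

/-- A self-adjoint matrix orthogonal to the identity and to the five involutions vanishes. -/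
theorem Cx.eq_zero (C : Cx R e) {X : Matrix Ix Ix F} (hX : Sad X) (h0 : Matrix.trace X = 0)
    (he : ∀ i, Matrix.trace (X * (e i : Matrix Ix Ix F)) = 0) : X = 0 := by
  classical
  haveI : Fintype R := Fintype.ofFinite R
  have hc : (Fintype.card R : F) = 32 := by
    rw [← Nat.card_eq_fintype_card, C.card]; norm_num
  have horth : ∀ i j k l : Ix, (∑ a : R, ((a.1 : GL Ix F) : Matrix Ix Ix F) k j *
      ((a.1⁻¹ : GL Ix F) : Matrix Ix Ix F) i l) = if i = j ∧ k = l then 8 else 0 := by
    intro i j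
    obtain ⟨T, hT⟩ : ∃ T : Matrix Ix Ix F, T = ∑ a : R, ((a.1 : GL Ix F) : Matrix Ix Ix F) *
        Matrix.single j i 1 * ((a.1⁻¹ : GL Ix F) : Matrix Ix Ix F) := ⟨_, rfl⟩
    obtain ⟨t, ht⟩ := C.set.irr.2 T (by
      rintro _ ⟨b, hb, rfl⟩
      rw [hT, Finset.sum_mul, Finset.mul_sum]
      refine Fintype.sum_equiv (Equiv.mulLeft (⟨b, hb⟩ : R)⁻¹) _ _ fun a => ?_
      simp only [Equiv.coe_mulLeft, Subgroup.coe_mul, Subgroup.coe_inv, mul_inv_rev, inv_inv, Units.val_mul,
        ← mul_assoc]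
      rw [← Units.val_mul b b⁻¹, mul_inv_cancel, Units.val_one, one_mul])
    have htr : t = if i = j then (8 : F) else 0 := by
      have h := congrArg Matrix.trace hT
      rw [ht, Matrix.trace_smul, Matrix.trace_one, Matrix.trace_sum] at h
      simp only [SympTypeFour.trace_conj, Finset.sum_const, Finset.card_univ, nsmul_eq_mul, smul_eq_mul, hc,
        Fintype.card_sum, Fintype.card_fin] at h
      refine mul_right_cancel₀ C.four ?_
      push_cast at h
      by_cases hij : i = j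
      · subst hij
        rw [if_pos rfl, Matrix.trace_single_eq_same] at *
        linear_combination h
      · rw [Matrix.trace_single_eq_of_ne _ _ _ (Ne.symm hij)] at h
        rw [if_neg hij]
        linear_combination h
    intro k l
    have h := congrArg (fun M : Matrix Ix Ix F => M k l) hT
    rw [ht, htr] at h
    simp only [Matrix.sum_apply, Matrix.smul_apply, Matrix.one_apply, smul_eq_mul] at h
    rw [show (if i = j ∧ k = l then (8 : F) else 0) = (if i = j then 8 else 0) * if k = l then 1 else 0 by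
      clear * -
      by_cases hij : i = j <;> by_cases hkl : k = l <;> simp [hij, hkl], h]
    refine Finset.sum_congr rfl fun a _ => ?_
    rw [Matrix.mul_apply, Finset.sum_eq_single i, Matrix.mul_single_apply_same, mul_one]
    · exact fun b _ hb => by rw [Matrix.mul_single_apply_of_ne (hbj := hb), zero_mul]
    · exact fun h' => absurd (Finset.mem_univ i) h'
  ext i l
  have hall : ∀ a : R, Matrix.trace (X * ((a.1 : GL Ix F) : Matrix Ix Ix F)) = 0 := fun a => by
    rcases C.set.sq a.1 a.2 with hs | hs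
    swap
    · exact trace_anti C.two (C.le a.2) hs hX
    rcases C.classify a.2 with (h | h) | ⟨k, h | h⟩ | ⟨k, m, hkm, h | h⟩
    · rw [h, Units.val_one, mul_one, h0]
    · rw [h, Units.val_neg, Units.val_one, mul_neg, mul_one, Matrix.trace_neg, h0, neg_zero]
    · rw [h, he]
    · rw [h, Units.val_neg, mul_neg, Matrix.trace_neg, he, neg_zero]
    all_goals
      exfalso
      rw [h] at hs
      try simp only [neg_mul, mul_neg, neg_neg] at hs
      rw [SympTypeFour.sq_mul_anti (C.fr.anti k m hkm), C.fr.sq k, C.fr.sq m, mul_one] at hs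
      exact SympTypeFour.neg_one_ne (ι := Ix) C.two hs
  have h : (8 : F) * X i l = 0 := by
    calc (8 : F) * X i l = ∑ j, ∑ k, X j k * (if i = j ∧ k = l then 8 else 0) := by
          rw [Finset.sum_eq_single i (fun b _ hb => Finset.sum_eq_zero fun k _ => by simp [Ne.symm hb])
            (fun h' => absurd (Finset.mem_univ i) h'), Finset.sum_eq_single l (fun b _ hb => by simp [hb])
            (fun h' => absurd (Finset.mem_univ l) h')]
          simp [mul_comm]
      _ = ∑ a : R, (∑ j, ∑ k, X j k * ((a.1 : GL Ix F) : Matrix Ix Ix F) k j) *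
            ((a.1⁻¹ : GL Ix F) : Matrix Ix Ix F) i l := by
          simp only [← horth, Finset.mul_sum, Finset.sum_mul, mul_assoc]
          conv_rhs => rw [Finset.sum_comm]
          exact Finset.sum_congr rfl fun j _ => Finset.sum_comm
      _ = 0 := Finset.sum_eq_zero fun a _ => by
          rw [show (∑ j, ∑ k, X j k * ((a.1 : GL Ix F) : Matrix Ix Ix F) k j) =
            Matrix.trace (X * ((a.1 : GL Ix F) : Matrix Ix Ix F)) from rfl, hall, zero_mul]
  exact (mul_eq_zero.1 h).resolve_left fun h8 => mul_ne_zero C.two C.four (by linear_combination h8)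

/-- The matrix with given coordinates on the five involutions. -/
noncomputable def lmap (e : Fin 5 → GL Ix F) : (Fin 5 → F) →ₗ[F] Matrix Ix Ix F :=
  Fintype.linearCombination F fun i => (e i : Matrix Ix Ix F)

/-- The coordinates on the five involutions. -/
noncomputable def coord (e : Fin 5 → GL Ix F) : Matrix Ix Ix F →ₗ[F] (Fin 5 → F) :=
  LinearMap.pi fun i => (4 : F)⁻¹ • (Matrix.traceLinearMap Ix F F).comp (LinearMap.mulRight F (e i : Matrix Ix Ix F))

omit [Fintype F] in
theorem lmap_apply (x : Fin 5 → F) : lmap e x = ∑ i, x i • (e i : Matrix Ix Ix F) := rfl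

omit [Fintype F] in
theorem coord_apply (X : Matrix Ix Ix F) (i : Fin 5) :
    coord e X i = (4 : F)⁻¹ * Matrix.trace (X * (e i : Matrix Ix Ix F)) := rfl

theorem Cx.trace_lmap (C : Cx R e) (x : Fin 5 → F) : Matrix.trace (lmap e x) = 0 := by
  rw [lmap_apply, Matrix.trace_sum]
  exact Finset.sum_eq_zero fun i _ => by rw [Matrix.trace_smul, C.trace_e, smul_zero]

theorem Cx.sad_lmap (C : Cx R e) (x : Fin 5 → F) : Sad (lmap e x) := by
  unfold Sad
  rw [lmap_apply, Matrix.transpose_sum, Finset.sum_mul, Finset.mul_sum]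
  exact Finset.sum_congr rfl fun i _ => by
    rw [Matrix.transpose_smul, smul_mul_assoc, mul_smul_comm, (sad_invol (C.sp i) (C.fr.sq i) : _ = _)]

theorem Cx.coord_lmap (C : Cx R e) (x : Fin 5 → F) : coord e (lmap e x) = x := funext fun i => by
  rw [coord_apply, lmap_apply, Finset.sum_mul, Matrix.trace_sum, Finset.sum_eq_single i
    (fun j _ hj => by rw [smul_mul_assoc, Matrix.trace_smul, C.trace_ee, if_neg hj, smul_zero])
    (fun h => absurd (Finset.mem_univ i) h), smul_mul_assoc, Matrix.trace_smul, C.trace_ee, if_pos rfl, smul_eq_mul]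
  field_simp [C.four]

theorem Cx.lmap_coord (C : Cx R e) {X : Matrix Ix Ix F} (hX : Sad X) (h0 : Matrix.trace X = 0) :
    lmap e (coord e X) = X := by
  refine (sub_eq_zero.1 (C.eq_zero (X := X - lmap e (coord e X)) ?_ ?_ fun i => ?_)).symm
  · have h := C.sad_lmap (coord e X)
    unfold Sad at hX h ⊢
    rw [Matrix.transpose_sub, sub_mul, mul_sub, hX, h]
  · rw [Matrix.trace_sub, h0, C.trace_lmap, sub_zero]
  · have h := congrFun (C.coord_lmap (coord e X)) i
    rw [coord_apply, coord_apply] at h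
    rw [sub_mul, Matrix.trace_sub, mul_left_cancel₀ (inv_ne_zero C.four) h, sub_self]

theorem Cx.lmap_injective (C : Cx R e) : Function.Injective (lmap e) := fun x y h => by
  rw [← C.coord_lmap x, h, C.coord_lmap]

theorem Cx.lmap_ax (C : Cx R e) (i : Fin 5) : lmap e (Frame.ax i) = (e i : Matrix Ix Ix F) := by
  rw [lmap_apply, Finset.sum_eq_single i (fun j _ hj => by rw [Frame.ax_ne hj, zero_smul])
    (fun h => absurd (Finset.mem_univ i) h), Frame.ax_self, one_smul]

theorem Cx.lmap_sq (C : Cx R e) (x : Fin 5 → F) : lmap e x * lmap e x = (x ⬝ᵥ x) • (1 : Matrix Ix Ix F) := by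
  obtain ⟨S, hS⟩ : ∃ S : Matrix Ix Ix F, S = ∑ i, ∑ j, (x i * x j) • ((e i : Matrix Ix Ix F) * (e j : Matrix Ix Ix F)) :=
    ⟨_, rfl⟩
  have h1 : lmap e x * lmap e x = S := by
    rw [hS, lmap_apply, Finset.sum_mul_sum]
    exact Finset.sum_congr rfl fun i _ => Finset.sum_congr rfl fun j _ => smul_mul_smul_comm _ _ _ _
  have h2 : (2 : F) • S = (2 : F) • ((x ⬝ᵥ x) • (1 : Matrix Ix Ix F)) := by
    rw [two_smul]
    conv_lhs => arg 2; rw [hS, Finset.sum_comm]
    rw [hS, ← Finset.sum_add_distrib, dotProduct, Finset.sum_smul, Finset.smul_sum]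
    refine Finset.sum_congr rfl fun i _ => ?_
    rw [← Finset.sum_add_distrib, Finset.sum_eq_single i (fun j _ hj => by
      rw [mul_comm (x j), ← smul_add, C.val_anti hj, add_neg_cancel, smul_zero])
      (fun h => absurd (Finset.mem_univ i) h), C.val_sq, two_smul]
  exact h1.trans (smul_right_injective _ C.two h2)

/-- The coordinates of a conjugate. -/
theorem Cx.lmap_conj (C : Cx R e) {g : GL Ix F} (hg : g ∈ Cfsg.spGL 2 F) (x : Fin 5 → F) :
    lmap e (coord e ((g : Matrix Ix Ix F) * lmap e x * ((g⁻¹ : GL Ix F) : Matrix Ix Ix F))) =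
      (g : Matrix Ix Ix F) * lmap e x * ((g⁻¹ : GL Ix F) : Matrix Ix Ix F) :=
  C.lmap_coord ((C.sad_lmap x).conj hg) (by rw [SympTypeFour.trace_conj, C.trace_lmap])

/-- The orthogonal action. -/
theorem Cx.exists_phi (C : Cx R e) : ∃ φ : Cfsg.spGL 2 F →* qAut (Frame.sq F 5), ∀ g x,
    lmap e ((φ g).1 x) = ((g : GL Ix F) : Matrix Ix Ix F) * lmap e x * (((g : GL Ix F)⁻¹ : GL Ix F) : Matrix Ix Ix F) := by
  obtain ⟨T, hT⟩ : ∃ T : Cfsg.spGL 2 F → (Fin 5 → F) →ₗ[F] (Fin 5 → F), ∀ g x,
      lmap e (T g x) = ((g : GL Ix F) : Matrix Ix Ix F) * lmap e x * (((g : GL Ix F)⁻¹ : GL Ix F) : Matrix Ix Ix F) :=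
    ⟨fun g => (coord e).comp (((LinearMap.mulRight F (((g : GL Ix F)⁻¹ : GL Ix F) : Matrix Ix Ix F)).comp
      (LinearMap.mulLeft F ((g : GL Ix F) : Matrix Ix Ix F))).comp (lmap e)), fun g x => C.lmap_conj g.2 x⟩
  have hmul : ∀ g h x, T g (T h x) = T (g * h) x := fun g h x => C.lmap_injective (by
    rw [hT, hT, hT, Subgroup.coe_mul, mul_inv_rev, Units.val_mul, Units.val_mul]
    simp only [mul_assoc])
  have hone : ∀ x, T 1 x = x := fun x => C.lmap_injective (by
    rw [hT, OneMemClass.coe_one, inv_one, Units.val_one, one_mul, mul_one])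
  refine ⟨{ toFun := fun g => ⟨LinearEquiv.ofLinearMap (T g) (T g⁻¹) (LinearMap.ext fun x => ?_)
              (LinearMap.ext fun x => ?_), fun x => ?_⟩
            map_one' := qAut_ext fun x => hone x
            map_mul' := fun g h => qAut_ext fun x => (hmul g h x).symm }, fun g x => hT g x⟩
  · change T g (T g⁻¹ x) = x
    rw [hmul, mul_inv_cancel, hone]
  · change T g⁻¹ (T g x) = x
    rw [hmul, inv_mul_cancel, hone]
  · change Frame.sq F 5 (T g x) = Frame.sq F 5 x
    rw [Frame.sq_apply, Frame.sq_apply]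
    refine SympTypeFour.scalar_inj (ι := Ix) ?_
    rw [← C.lmap_sq, hT]
    calc _ = ((g : GL Ix F) : Matrix Ix Ix F) * (lmap e x * lmap e x) *
            (((g : GL Ix F)⁻¹ : GL Ix F) : Matrix Ix Ix F) := by
          simp only [mul_assoc]
          rw [← mul_assoc (((g : GL Ix F)⁻¹ : GL Ix F) : Matrix Ix Ix F) ((g : GL Ix F) : Matrix Ix Ix F),
            ← Units.val_mul, inv_mul_cancel, Units.val_one, one_mul]
      _ = _ := by
          rw [C.lmap_sq, mul_smul_comm, smul_mul_assoc, mul_one, ← Units.val_mul, mul_inv_cancel, Units.val_one]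

/-- The elements permuting the five involutions up to sign normalise the group. -/
theorem Cx.normal (C : Cx R e) {g : GL Ix F} (h : ∀ i, g * e i * g⁻¹ ∈ R) :
    g ∈ Cfsg.Geo.subgroupNormalizer R := by
  refine SympTypeFour.normalizer_of_le fun a ha => ?_
  have hneg : ∀ u : GL Ix F, g * u * g⁻¹ ∈ R → g * -u * g⁻¹ ∈ R := fun u hu => by
    rw [mul_neg, neg_mul, ← neg_one_mul (g * u * g⁻¹)]
    exact mul_mem C.set.neg hu
  have hpair : ∀ i j, g * (e i * e j) * g⁻¹ ∈ R := fun i j => by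
    rw [show g * (e i * e j) * g⁻¹ = g * e i * g⁻¹ * (g * e j * g⁻¹) by group]
    exact mul_mem (h i) (h j)
  have hone : g * 1 * g⁻¹ ∈ R := by simp
  rcases C.classify ha with (e1 | e1) | ⟨i, e1 | e1⟩ | ⟨i, j, -, e1 | e1⟩ <;> rw [e1]
  · exact hone
  · exact hneg _ hone
  · exact h i
  · exact hneg _ (h i)
  · exact hpair i j
  · exact hneg _ (hpair i j)

/-- Three of the involutions are permuted cyclically by an isometry fixing the other two. -/
theorem Cx.exists_cycle (C : Cx R e) {a b c : Fin 5} (hab : a ≠ b) (hbc : b ≠ c) (hac : a ≠ c) :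
    ∃ w ∈ Cfsg.spGL 2 F, w * e a * w⁻¹ = e b ∧ w * e b * w⁻¹ = e c ∧ w * e c * w⁻¹ = e a ∧
      (∀ k, k ≠ a → k ≠ b → k ≠ c → w * e k * w⁻¹ = e k) := by
  have hin : ∀ p q, -(e p * e q) ∈ R := fun p q => by
    rw [← neg_one_mul (e p * e q)]
    exact mul_mem C.set.neg (mul_mem (C.fr.mem p) (C.fr.mem q))
  have hj : ∀ {p q}, p ≠ q → -(e p * e q) * -(e p * e q) = -1 := fun {p q} h => by
    rw [neg_mul_neg, SympTypeFour.sq_mul_anti (C.fr.anti p q h), C.fr.sq p, C.fr.sq q, mul_one]
  have hjk : -(e a * e b) * -(e b * e c) = -(-(e b * e c) * -(e a * e b)) := by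
    rw [neg_mul_neg, neg_mul_neg]
    calc e a * e b * (e b * e c) = e a * e c := by
          rw [mul_assoc, ← mul_assoc (e b), C.fr.sq b, one_mul]
      _ = -(e b * e c * (e a * e b)) := by
          rw [mul_assoc (e b), ← mul_assoc (e c), C.fr.anti c a (Ne.symm hac), neg_mul, mul_neg, neg_neg,
            mul_assoc (e a), C.fr.anti c b (Ne.symm hbc), mul_neg, mul_neg, ← mul_assoc (e b), C.fr.anti b a (Ne.symm hab),
            neg_mul, neg_neg, mul_assoc (e a), ← mul_assoc (e b), C.fr.sq b, one_mul]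
  obtain ⟨w, hw, -, -, -, -⟩ := SympTypeFour.exists_quat C.two (hj hab) (hj hbc) hjk
  obtain ⟨q1, q2, q3, q4⟩ := SympTypeFour.quat_cycle C.two (C.fr.sq a) (C.fr.sq b) (C.fr.sq c) (C.fr.anti a b hab)
    (C.fr.anti a c hac) (C.fr.anti b c hbc) hw
  refine ⟨w, ?_, mul_inv_eq_iff_eq_mul.2 q1, mul_inv_eq_iff_eq_mul.2 q2, mul_inv_eq_iff_eq_mul.2 q3,
    fun k h1 h2 h3 => mul_inv_eq_iff_eq_mul.2 (q4 _ (C.fr.anti k a h1) (C.fr.anti k b h2) (C.fr.anti k c h3))⟩
  have hp : ∀ {p q}, SympTypeFour.Pres (Cfsg.sympForm 2 F) (-(e p * e q)) := fun {p q} => C.le (hin p q)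
  exact SympTypeFour.quat_pres C.two (σ := RingHom.id F)
    ⟨CfsgLib.Classical.sympForm_add_left, CfsgLib.Classical.sympForm_add_right,
      CfsgLib.Classical.sympForm_smul_left, CfsgLib.Classical.sympForm_smul_right⟩
    (hj hab) (hj hbc) hjk hp hp hw

end CfsgLib.SpFourOdd
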