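/-
Sp_4(p): maximality of the normaliser of the group of symplectic type.
-/
import Cfsg.Agent.Lib.SpFourOdd.SympType

set_option autoImplicit false
set_option linter.all false

namespace CfsgLib.SpFourOdd

open Cfsg CfsgLib.Classical CfsgLib.Classical22
open CfsgLib.Classical22.SympTypeFour (Setting)
open scoped Matrix MatrixGroups

local notation "Ix" => (Fin 2 ⊕ Fin 2)

variable {F : Type*} [Field F] [Fintype F] {R : Subgroup (GL Ix F)} {e : Fin 5 → GL Ix F}

/-- Some transvection does not permute the five lines. -/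
theorem Cx.not_mono (C : Cx R e) {v : Ix → F} (hv : v ≠ 0)
    {φ : Cfsg.spGL 2 F →* qAut (Frame.sq F 5)}
    (hφ : ∀ g x, lmap e ((φ g).1 x) = ((g : GL Ix F) : Matrix Ix Ix F) * lmap e x *
      (((g : GL Ix F)⁻¹ : GL Ix F) : Matrix Ix Ix F)) :
    ∃ g : Cfsg.spGL 2 F, ¬ Frame.Mono (φ g) := by
  classical
  have hf := Transvec.isSymplecticForm_sympForm (F := F) 2
  obtain ⟨t, ht⟩ : ∃ t, t = Transvec.sT (Cfsg.sympForm 2 F) v 1 := ⟨_, rfl⟩
  have htS : t ∈ Cfsg.spGL 2 F := ht ▸ Transvec.sT_mem_spGL 2 v 1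
  refine ⟨⟨t, htS⟩, fun hm => ?_⟩
  have hcomm : ∀ i, t * e i = e i * t := fun i => by
    obtain ⟨j, c, hj⟩ := hm i
    have hc := Frame.mono_coeff hj
    have h := hφ ⟨t, htS⟩ (Frame.ax i)
    rw [hj, map_smul, C.lmap_ax, C.lmap_ax] at h
    have h' : (t : Matrix Ix Ix F) * (e i : Matrix Ix Ix F) = c • ((e j : Matrix Ix Ix F) * (t : Matrix Ix Ix F)) := by
      rw [← smul_mul_assoc, h]
      change _ = (t : Matrix Ix Ix F) * (e i : Matrix Ix Ix F) * ((t⁻¹ : GL Ix F) : Matrix Ix Ix F) * (t : Matrix Ix Ix F)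
      rw [mul_assoc _ ((t⁻¹ : GL Ix F) : Matrix Ix Ix F), Units.inv_mul, mul_one]
    -- a vector fixed by `t` whose image under the involution is also fixed
    obtain ⟨x, hx0, hx1, hx2⟩ : ∃ x : Ix → F, x ≠ 0 ∧ Cfsg.sympForm 2 F x v = 0 ∧
        Cfsg.sympForm 2 F ((e i : Matrix Ix Ix F) *ᵥ x) v = 0 := by
      obtain ⟨A, hA⟩ : ∃ A : (Ix → F) →ₗ[F] (Fin 2 → F), ∀ x, A x = ![Cfsg.sympForm 2 F x v,
          Cfsg.sympForm 2 F ((e i : Matrix Ix Ix F) *ᵥ x) v] :=
        ⟨{ toFun := fun x => ![Cfsg.sympForm 2 F x v, Cfsg.sympForm 2 F ((e i : Matrix Ix Ix F) *ᵥ x) v]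
           map_add' := fun x y => by
             funext k; fin_cases k <;> simp [Matrix.mulVec_add, sympForm_add_left]
           map_smul' := fun a x => by
             funext k; fin_cases k <;> simp [Matrix.mulVec_smul, sympForm_smul_left] }, fun x => rfl⟩
      have hlt : LinearMap.ker A ≠ ⊥ := fun h => by
        have := LinearMap.finrank_le_finrank_of_injective (LinearMap.ker_eq_bot.1 h)
        simp at this
      obtain ⟨x, hx, hx0⟩ := Submodule.exists_mem_ne_zero_of_ne_bot hlt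
      rw [LinearMap.mem_ker, hA] at hx
      exact ⟨x, hx0, by simpa using congrFun hx 0, by simpa using congrFun hx 1⟩
    have h1 := congrArg (fun M => M *ᵥ x) h'
    simp only [← Matrix.mulVec_mulVec, Matrix.smul_mulVec] at h1
    rw [ht, Transvec.sT_fix hf hx1, Transvec.sT_fix hf hx2] at h1
    by_cases hij : i = j
    · subst hij
      have hc1 : c = 1 := by
        have h2 := congrArg (fun y => (e i : Matrix Ix Ix F) *ᵥ y) h1
        simp only [Matrix.mulVec_smul, Matrix.mulVec_mulVec, C.val_sq, Matrix.one_mulVec] at h2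
        by_contra hne
        exact hx0 ((smul_eq_zero.1 (show (c - 1) • x = 0 by rw [sub_smul, one_smul, ← h2, sub_self])).resolve_left
          (sub_ne_zero.2 hne))
      rw [hc1, one_smul] at h'
      exact Units.ext (by rw [Units.val_mul, Units.val_mul]; exact h')
    · exfalso
      have h2 := congrArg (fun y => (e i : Matrix Ix Ix F) *ᵥ y) h1
      have h3 := congrArg (fun y => (e j : Matrix Ix Ix F) *ᵥ y) h1
      simp only [Matrix.mulVec_smul, Matrix.mulVec_mulVec, C.val_sq, Matrix.one_mulVec] at h2 h3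
      rw [C.val_anti (Ne.symm hij), Matrix.neg_mulVec] at h3
      have h4 : (2 : F) • x = 0 := by
        calc (2 : F) • x = x + (c * c) • x := by rw [hc]; module
          _ = c • (((e i : Matrix Ix Ix F) * (e j : Matrix Ix Ix F)) *ᵥ x) + c • (c • x) := by
              rw [← h2, smul_smul]
          _ = 0 := by rw [← h3, smul_neg, add_neg_cancel]
      exact hx0 ((smul_eq_zero.1 h4).resolve_left C.two)
  obtain ⟨c, hc, htc⟩ := SympTypeFour.scalar_of_commute C.set.irr fun a ha => C.fr.gen a ha t hcomm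
  obtain ⟨y, hy⟩ := (hf.nondegenerate v hv).1
  have h := congrArg (fun M => M *ᵥ v) htc
  simp only [ht] at h
  rw [Transvec.sT_fix hf (hf.alternating v), Matrix.smul_mulVec, Matrix.one_mulVec] at h
  have hc1 : c = 1 := by
    by_contra hne
    exact hv ((smul_eq_zero.1 (show (c - 1) • v = 0 by rw [sub_smul, one_smul, ← h, sub_self])).resolve_left
      (sub_ne_zero.2 hne))
  have h2 := congrArg (fun M => M *ᵥ y) htc
  simp only [ht] at h2
  rw [Transvec.sT_mulVec hf, hc1, one_smul, Matrix.one_mulVec, one_mul, add_eq_left, smul_eq_zero] at h2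
  exact hy (h2.resolve_right hv)

/-- The normaliser of a group of symplectic type of minus type is maximal in `Sp_4(p)`. -/
theorem isMaximalIn_symplecticType (hodd : Odd (Fintype.card F)) {p : ℕ} (hp : p.Prime) (hF : Fintype.card F = p)
    (R : Subgroup (GL Ix F)) (hR : Cfsg.Geo.IsSymplecticTypeGroup 2 R)
    (hirr : Cfsg.Geo.ActsAbsolutelyIrreducibly (Cfsg.Geo.matrixSet R)) (hle : R ≤ Cfsg.spGL 2 F)
    (hcard : Nat.card R = 32) (hcen : Nat.card (Subgroup.center R) = 2) (hminus : Cfsg.Geo.IsOfMinusType 2 R) :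
    Cfsg.Geo.IsMaximalIn (Cfsg.spGL 2 F) (Cfsg.Geo.subgroupNormalizer R ⊓ Cfsg.spGL 2 F) := by
  classical
  have h2 : (2 : F) ≠ 0 := Ring.two_ne_zero fun h => by
    haveI := ringChar.of_eq h
    have := FiniteField.even_card_of_char_two (F := F) h
    rw [Nat.odd_iff] at hodd
    omega
  have hprime : (Fintype.card F).Prime := hF ▸ hp
  have hS : Setting R := SympTypeFour.setting_of_type h2 hR hirr (by rw [hcard, hcen]) (by rw [hcen])
  obtain ⟨a, b, c, d, hP, ha, hb, hc, hd⟩ := SympTypeFour.exists_frame_of_minus h2 hS hminus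
  obtain ⟨e, C⟩ : ∃ e, Cx R e := ⟨_, h2, hS, SympTypeFour.frame_of_pairs h2 hS hP ha hb hc hd, hle, hcard, hcen⟩
  obtain ⟨φ, hφ⟩ := C.exists_phi
  have hconj : ∀ (g : Cfsg.spGL 2 F) (i j : Fin 5) (s : F), (φ g).1 (Frame.ax i) = s • Frame.ax j →
      (g : GL Ix F) * e i * (g : GL Ix F)⁻¹ ∈ R := by
    intro g i j s hs
    have h := hφ g (Frame.ax i)
    rw [hs, map_smul, C.lmap_ax, C.lmap_ax] at h
    rcases mul_self_eq_one_iff.1 (Frame.mono_coeff hs) with rfl | rfl
    · rw [show (g : GL Ix F) * e i * (g : GL Ix F)⁻¹ = e j from Units.ext (by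
        rw [Units.val_mul, Units.val_mul, ← h, one_smul])]
      exact C.fr.mem j
    · rw [show (g : GL Ix F) * e i * (g : GL Ix F)⁻¹ = -1 * e j from Units.ext (by
        rw [Units.val_mul, Units.val_mul, ← h, neg_one_smul, neg_one_mul, Units.val_neg])]
      exact mul_mem C.set.neg (C.fr.mem j)
  have hmono : ∀ g : Cfsg.spGL 2 F, Frame.Mono (φ g) → (g : GL Ix F) ∈ Cfsg.Geo.subgroupNormalizer R :=
    fun g hg => C.normal fun i => by
      obtain ⟨j, s, hs⟩ := hg i
      exact hconj g i j s hs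
  have hact : ∀ (g : Cfsg.spGL 2 F) (i j : Fin 5), (g : GL Ix F) * e i * (g : GL Ix F)⁻¹ = e j →
      (φ g).1 (Frame.ax i) = Frame.ax j := fun g i j h => C.lmap_injective (by
    rw [hφ, C.lmap_ax, C.lmap_ax, ← Units.val_mul, ← Units.val_mul, h])
  refine ⟨lt_of_le_not_ge inf_le_right fun hle' => ?_, fun M hHM hMK => ?_⟩
  · obtain ⟨g, hg⟩ := C.not_mono (v := Pi.single (Sum.inl 0) 1) (by simp) hφ
    refine hg fun i => ?_
    have hn := SympTypeFour.conj_mem_of_normalizer (hle' g.2).1 _ (C.fr.mem i)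
    have h1 : (g : GL Ix F) * e i * (g : GL Ix F)⁻¹ * ((g : GL Ix F) * e i * (g : GL Ix F)⁻¹) = 1 := by
      rw [show (g : GL Ix F) * e i * (g : GL Ix F)⁻¹ * ((g : GL Ix F) * e i * (g : GL Ix F)⁻¹) =
        (g : GL Ix F) * (e i * e i) * (g : GL Ix F)⁻¹ by group, C.fr.sq i, mul_one, mul_inv_cancel]
    have hne : ∀ s : GL Ix F, (∀ y, s * y = y * s) → (g : GL Ix F) * e i * (g : GL Ix F)⁻¹ ≠ s := by
      intro s hs he
      have he' : e i = s := by
        have := congrArg (fun u => (g : GL Ix F)⁻¹ * u * (g : GL Ix F)) he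
        simp only [mul_assoc, inv_mul_cancel_left, inv_mul_cancel, mul_one] at this
        rwa [hs, inv_mul_cancel_left] at this
      have hj : i + 1 ≠ i := (show ∀ k : Fin 5, k + 1 ≠ k by decide) i
      refine SympTypeFour.neg_ne_self C.two _ ((C.fr.anti _ _ hj).symm.trans ?_)
      rw [he', hs]
    rcases C.classify hn with (h | h) | ⟨j, h | h⟩ | ⟨j, k, hjk, h⟩
    · exact absurd h (hne 1 fun y => by rw [one_mul, mul_one])
    · exact absurd h (hne (-1) fun y => by rw [neg_one_mul, mul_neg_one])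
    · exact ⟨j, 1, by rw [one_smul]; exact hact g i j h⟩
    · refine ⟨j, -1, C.lmap_injective ?_⟩
      rw [hφ, map_smul, C.lmap_ax, C.lmap_ax, ← Units.val_mul, ← Units.val_mul, h, Units.val_neg, neg_one_smul]
    · exfalso
      rcases h with h | h <;> rw [h] at h1 <;> try simp only [neg_mul, mul_neg, neg_neg] at h1
      all_goals
        rw [SympTypeFour.sq_mul_anti (C.fr.anti j k hjk), C.fr.sq j, C.fr.sq k, mul_one] at h1
        exact SympTypeFour.neg_one_ne (ι := Ix) C.two h1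
  obtain ⟨H, hH⟩ : ∃ H, H = (M.subgroupOf (Cfsg.spGL 2 F)).map φ := ⟨_, rfl⟩
  have hsm : ∀ (g : GL Ix F) (hg : g ∈ Cfsg.spGL 2 F), g ∈ M → φ ⟨g, hg⟩ ∈ H := fun g hg hgM =>
    hH ▸ ⟨⟨g, hg⟩, hgM, rfl⟩
  have hRM : ∀ r ∈ R, r ∈ M := fun r hr => hHM ⟨Subgroup.le_normalizer hr, C.le hr⟩
  have B : Frame.Base H := by
    refine ⟨h2, hprime, le_rfl, fun i j hij => ?_, fun i j k hij hjk hik => ?_⟩
    · have hm : e i * e j ∈ R := mul_mem (C.fr.mem i) (C.fr.mem j)
      have h := hsm _ (C.le hm) (hRM _ hm)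
      convert h using 1
      refine Frame.qAut_ext_ax fun l => C.lmap_injective ?_
      rw [hφ, qAut_mul_apply]
      show _ = ((e i * e j : GL Ix F) : Matrix Ix Ix F) * lmap e (Frame.ax l) * (((e i * e j)⁻¹ : GL Ix F) : Matrix Ix Ix F)
      rw [C.lmap_ax, mul_inv_rev, show (e i)⁻¹ = e i from inv_eq_of_mul_eq_one_right (C.fr.sq i),
        show (e j)⁻¹ = e j from inv_eq_of_mul_eq_one_right (C.fr.sq j), Units.val_mul, Units.val_mul]
      obtain ⟨A, hA⟩ : ∃ A : Fin 5 → Matrix Ix Ix F, ∀ k, A k = (e k : Matrix Ix Ix F) := ⟨_, fun k => rfl⟩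
      have hAs : ∀ k, A k * A k = 1 := fun k => by rw [hA]; exact C.val_sq k
      have hAa : ∀ {k m}, k ≠ m → A k * A m = -(A m * A k) := fun h => by rw [hA, hA]; exact C.val_anti h
      simp only [← hA]
      have hsg : ∀ k, A k * A l = (if l = k then (1 : F) else -1) • (A l * A k) := fun k => by
        split_ifs with hk
        · rw [hk, one_smul]
        · rw [neg_one_smul, hAa (Ne.symm hk)]
      have hval : A i * A j * A l * (A j * A i) =
          ((if l = j then (1 : F) else -1) * (if l = i then (1 : F) else -1)) • A l := by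
        calc A i * A j * A l * (A j * A i) = A i * (A j * A l) * A j * A i := by simp only [mul_assoc]
          _ = (if l = j then (1 : F) else -1) • (A i * (A l * (A j * A j)) * A i) := by
              rw [hsg j]; simp only [mul_smul_comm, smul_mul_assoc, mul_assoc]
          _ = _ := by
              rw [hAs, mul_one, hsg i, smul_mul_assoc, smul_smul, mul_assoc (A l), hAs, mul_one]
      rw [hval]
      by_cases hli : l = i
      · subst hli
        rw [Frame.refl_ax_fix (Frame.ax_ne (Ne.symm hij)), Frame.refl_ax_self, map_neg, C.lmap_ax, ← hA,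
          if_neg hij, if_pos rfl, mul_one, neg_one_smul]
      by_cases hlj : l = j
      · subst hlj
        rw [Frame.refl_ax_self, map_neg, Frame.refl_ax_fix (Frame.ax_ne hij), map_neg, C.lmap_ax, ← hA,
          if_neg hli, if_pos rfl, one_mul, neg_one_smul]
      rw [Frame.refl_ax_fix (Frame.ax_ne (Ne.symm hlj)), Frame.refl_ax_fix (Frame.ax_ne (Ne.symm hli)), C.lmap_ax,
        ← hA, if_neg hlj, if_neg hli, neg_mul_neg, one_mul, one_smul]
    · obtain ⟨w, hw, w1, w2, w3, w4⟩ := C.exists_cycle hij hjk hik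
      have hwN : w ∈ Cfsg.Geo.subgroupNormalizer R := C.normal fun l => by
        by_cases l1 : l = i
        · rw [l1, w1]; exact C.fr.mem _
        by_cases l2 : l = j
        · rw [l2, w2]; exact C.fr.mem _
        by_cases l3 : l = k
        · rw [l3, w3]; exact C.fr.mem _
        rw [w4 l l1 l2 l3]; exact C.fr.mem _
      have h := hsm w hw (hHM ⟨hwN, hw⟩)
      convert h using 1
      refine Frame.qAut_ext_ax fun l => ?_
      rw [qAut_mul_apply]
      by_cases l1 : l = i
      · subst l1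
        rw [Frame.swp_other _ _ (Ne.symm hij) (Ne.symm hik), Frame.swp_left]
        exact (hact ⟨w, hw⟩ _ _ w1).symm
      by_cases l2 : l = j
      · subst l2
        rw [Frame.swp_left, Frame.swp_other _ _ hik hjk]
        exact (hact ⟨w, hw⟩ _ _ w2).symm
      by_cases l3 : l = k
      · subst l3
        rw [Frame.swp_right, Frame.swp_right]
        exact (hact ⟨w, hw⟩ _ _ w3).symm
      rw [Frame.swp_other _ _ (Ne.symm l2) (Ne.symm l3), Frame.swp_other _ _ (Ne.symm l1) (Ne.symm l2)]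
      exact (hact ⟨w, hw⟩ _ _ (w4 l l1 l2 l3)).symm
  rcases B.odd_dichotomy ⟨2, rfl⟩ with hall | hfull
  · exact Or.inl (le_antisymm (le_inf (fun g hg => hmono ⟨g, hMK hg⟩ (hall _ (hsm g (hMK hg) hg))) hMK) hHM)
  right
  refine le_antisymm hMK fun g hg => ?_
  have hperf := CfsgLib.Classical.commutator_sp_eq_top (F := F) (m := 2) (Or.inr (Or.inr ⟨le_rfl, h2⟩))
  obtain ⟨A, hA⟩ : ∃ A : Matrix.symplecticGroup (Fin 2) F, CfsgLib.Classical.spToSpGL A = ⟨g, hg⟩ :=
    ⟨⟨_, CfsgLib.Classical.mem_sp_iff.2 hg⟩, Subtype.ext (Units.ext rfl)⟩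
  have hin : φ ⟨g, hg⟩ ∈ H := by
    refine hfull ?_
    rw [eichGroup_eq_commutator _ (Frame.polarNondeg_sq h2) (by rw [Module.finrank_fin_fun]), ← hA]
    have hm := Subgroup.mem_map_of_mem (φ.comp CfsgLib.Classical.spToSpGL)
      (show A ∈ commutator (Matrix.symplecticGroup (Fin 2) F) by rw [hperf]; trivial)
    rw [commutator_def, Subgroup.map_commutator] at hm
    rw [commutator_def]
    exact Subgroup.commutator_mono le_top le_top hm
  obtain ⟨m, hm, hmg⟩ := (hH ▸ hin : φ ⟨g, hg⟩ ∈ (M.subgroupOf (Cfsg.spGL 2 F)).map φ)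
  obtain ⟨d', hd'⟩ : ∃ d', d' = (m : GL Ix F)⁻¹ * g := ⟨_, rfl⟩
  have hd'S : d' ∈ Cfsg.spGL 2 F := hd' ▸ mul_mem (inv_mem m.2) hg
  have hker : φ ⟨d', hd'S⟩ = 1 := by
    rw [show (⟨d', hd'S⟩ : Cfsg.spGL 2 F) = m⁻¹ * ⟨g, hg⟩ from Subtype.ext hd', map_mul, map_inv, hmg,
      inv_mul_cancel]
  have hdc : ∀ i, d' * e i = e i * d' := fun i => by
    have h := hφ ⟨d', hd'S⟩ (Frame.ax i)
    rw [hker, show (1 : qAut (Frame.sq F 5)).1 (Frame.ax i) = Frame.ax i from rfl, C.lmap_ax, ← Units.val_mul,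
      ← Units.val_mul] at h
    exact mul_inv_eq_iff_eq_mul.1 (Units.ext h).symm
  obtain ⟨s, hs0, hs⟩ := SympTypeFour.scalar_of_commute C.set.irr fun r hr => C.fr.gen r hr d' hdc
  have hs1 : s * s = 1 := by
    refine SympTypeFour.scalar_inj (ι := Ix) ?_
    have h := sp_matrix hd'S
    rw [hs, Matrix.transpose_smul, Matrix.transpose_one, smul_mul_assoc, one_mul, smul_mul_smul_comm, mul_one] at h
    have h' := congrArg (fun M => M * Matrix.J (Fin 2) F) h
    simp only [smul_mul_assoc, Matrix.J_squared, smul_neg, neg_inj] at h'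
    rw [h', one_smul]
  have hd'M : d' ∈ M := by
    rcases mul_self_eq_one_iff.1 hs1 with rfl | rfl
    · rw [show d' = 1 from Units.ext (by rw [hs, one_smul, Units.val_one])]
      exact one_mem M
    · exact hRM _ (show d' ∈ R by
        rw [show d' = -1 from Units.ext (by rw [hs, neg_one_smul, Units.val_neg, Units.val_one])]
        exact C.set.neg)
  rw [show g = (m : GL Ix F) * d' by rw [hd', mul_inv_cancel_left]]
  exact mul_mem hm hd'M

end CfsgLib.SpFourOdd
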