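/-
Two complementary Lagrangian planes in four-dimensional symplectic space, odd characteristic: overgroups of
their common stabiliser.
-/
import Cfsg.Agent.Lib.Transvec.ShortRoot
import Cfsg.Agent.Lib.Transvec.Stabilizer

set_option autoImplicit false
set_option linter.all false

namespace CfsgLib.SpFourOdd

open Matrix CfsgLib.Transvec
open scoped MatrixGroups

variable {ι : Type} [Fintype ι] [DecidableEq ι] {F : Type*} [Field F] {f : (ι → F) → (ι → F) → F}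

/-- The argument for one ordering of two Lagrangian planes. -/
structure Planes (f : (ι → F) → (ι → F) → F) (M : Subgroup (GL ι F)) (A B : Submodule F (ι → F))
    (pA pB : (ι → F) →ₗ[F] (ι → F)) : Prop where
  projA : ∀ x, pA x ∈ A
  projB : ∀ x, pB x ∈ B
  split : ∀ x, pA x + pB x = x
  singA : ∀ x ∈ A, ∀ y ∈ A, f x y = 0
  singB : ∀ x ∈ B, ∀ y ∈ B, f x y = 0
  perpA : ∀ c ∈ A, ∃ d ∈ B, d ≠ 0 ∧ f c d = 0
  perpB : ∀ d ∈ B, ∃ c ∈ A, c ≠ 0 ∧ f d c = 0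
  lineA : ∀ d ∈ B, d ≠ 0 → ∀ c ∈ A, c ≠ 0 → f c d = 0 → ∀ x ∈ A, f x d = 0 → x ∈ Submodule.span F {c}
  lineB : ∀ c ∈ A, c ≠ 0 → ∀ d ∈ B, d ≠ 0 → f d c = 0 → ∀ x ∈ B, f x c = 0 → x ∈ Submodule.span F {d}
  mem : ∀ c ∈ A, ∀ d ∈ B, f c d = 0 → ∀ l, sX f c d l ∈ M
  tor : ∀ e ∈ A, ∀ g ∈ B, f e g = 1 → ∀ r : F, r ≠ 0 → ∃ h ∈ M, Iso f h ∧
    ∀ z, (h : Matrix ι ι F) *ᵥ z = z + ((r - 1) * f z g) • e - ((r⁻¹ - 1) * f z e) • g

namespace Planes

variable {M : Subgroup (GL ι F)} {A B : Submodule F (ι → F)} {pA pB : (ι → F) →ₗ[F] (ι → F)}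

lemma symm (hf : Cfsg.Geo.IsSymplecticForm f) (H : Planes f M A B pA pB) : Planes f M B A pB pA where
  projA := H.projB
  projB := H.projA
  split x := by rw [add_comm]; exact H.split x
  singA := H.singB
  singB := H.singA
  perpA := H.perpB
  perpB := H.perpA
  lineA := H.lineB
  lineB := H.lineA
  mem c hc d hd h l := by
    rw [sX_comm hf h]
    exact H.mem d hd c hc (by rw [hf.skew, h, neg_zero]) l
  tor e he g hg heg r hr := by
    obtain ⟨h, hh, hi, hz⟩ := H.tor (-g) (A.neg_mem hg) e he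
      (by rw [← neg_one_smul F g, smul_left' hf, hf.skew, heg]; ring) r⁻¹ (inv_ne_zero hr)
    refine ⟨h, hh, hi, fun z => ?_⟩
    rw [hz, inv_inv, ← neg_one_smul F g, smul_right' hf]
    module

lemma f_left (hf : Cfsg.Geo.IsSymplecticForm f) (H : Planes f M A B pA pB) (x : ι → F) {c : ι → F} (hc : c ∈ A) :
    f x c = f (pB x) c := by
  conv_lhs => rw [← H.split x]
  rw [add_left' hf, H.singA _ (H.projA x) _ hc, zero_add]

lemma inter (hf : Cfsg.Geo.IsSymplecticForm f) (H : Planes f M A B pA pB) {x : ι → F} (hA : x ∈ A) (hB : x ∈ B) :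
    x = 0 := by
  by_contra hx
  obtain ⟨y, hy⟩ := (hf.nondegenerate x hx).1
  refine hy ?_
  rw [H.f_left hf y hA]
  exact H.singB _ (H.projB y) _ hB

lemma comps (hf : Cfsg.Geo.IsSymplecticForm f) (H : Planes f M A B pA pB) {a b : ι → F} (ha : a ∈ A) (hb : b ∈ B) :
    pA (a + b) = a ∧ pB (a + b) = b := by
  have h : pA (a + b) - a = b - pB (a + b) := by
    rw [sub_eq_sub_iff_add_eq_add, H.split, add_comm]
  have h1 := H.inter hf (A.sub_mem (H.projA (a + b)) ha) (h ▸ B.sub_mem hb (H.projB (a + b)))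
  exact ⟨sub_eq_zero.mp h1, (sub_eq_zero.mp (h ▸ h1)).symm⟩

lemma pA_ne (H : Planes f M A B pA pB) {x : ι → F} (hx : x ∉ B) : pA x ≠ 0 := fun h0 =>
  hx (by rw [← H.split x, h0, zero_add]; exact H.projB x)

lemma pB_ne (H : Planes f M A B pA pB) {x : ι → F} (hx : x ∉ A) : pB x ≠ 0 := fun h0 =>
  hx (by rw [← H.split x, h0, add_zero]; exact H.projA x)

/-- The plane of one vector is paired faithfully. -/
lemma exists_one (hf : Cfsg.Geo.IsSymplecticForm f) (H : Planes f M A B pA pB) {d : ι → F} (hd : d ∈ B)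
    (hd0 : d ≠ 0) : ∃ a ∈ A, f a d = 1 := by
  obtain ⟨z, hz⟩ := (hf.nondegenerate d hd0).1
  have e : f (pA z) d = f z d := by
    conv_rhs => rw [← H.split z]
    rw [add_left' hf, H.singB _ (H.projB z) _ hd, add_zero]
  exact ⟨(f z d)⁻¹ • pA z, A.smul_mem _ (H.projA z), by rw [smul_left' hf, e, inv_mul_cancel₀ hz]⟩

/-- A conjugated short root group with one end in a half and the other off the opposite half. -/
lemma key (hf : Cfsg.Geo.IsSymplecticForm f) (H : Planes f M A B pA pB) (h2 : (2 : F) ≠ 0) {k : GL ι F} (hk : k ∈ M)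
    (hki : Iso f k) {x y : ι → F} (hx : x ∈ A) (hx0 : x ≠ 0) (hy : y ∈ B) (hxy : f x y = 0)
    (hkx : (k : Matrix ι ι F) *ᵥ x ∈ A) (hky : (k : Matrix ι ι F) *ᵥ y ∉ B) : ∃ v, v ≠ 0 ∧ Full f M v := by
  obtain ⟨c, hc⟩ : ∃ c, c = (k : Matrix ι ι F) *ᵥ x := ⟨_, rfl⟩
  obtain ⟨d, hd⟩ : ∃ d, d = (k : Matrix ι ι F) *ᵥ y := ⟨_, rfl⟩
  rw [← hc] at hkx
  rw [← hd] at hky
  have hc0 : c ≠ 0 := hc ▸ mulVec_ne_zero k hx0
  have hcd : f c d = 0 := by rw [hc, hd, hki, hxy]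
  obtain ⟨a, ha⟩ : ∃ a, a = pA d := ⟨_, rfl⟩
  obtain ⟨b, hb⟩ : ∃ b, b = pB d := ⟨_, rfl⟩
  have haA : a ∈ A := ha ▸ H.projA d
  have hbB : b ∈ B := hb ▸ H.projB d
  have hdab : d = b + a := by rw [ha, hb, add_comm, H.split]
  have hca : f c a = 0 := H.singA c hkx a haA
  have hcb : f c b = 0 := by
    have := hcd
    rwa [hdab, add_right' hf, hca, add_zero] at this
  have hN : ∀ l, sX f c a l * sT f c (-(l ^ 2 * f a b)) ∈ M := by
    intro l
    have h1 := M.mul_mem (M.inv_mem (H.mem c hkx b hbB hcb l))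
      (show sX f c d l ∈ M by
        rw [hc, hd, ← conj_sX hf hki]
        exact M.mul_mem (M.mul_mem hk (H.mem x hx y hy hxy l)) (M.inv_mem hk))
    have e := sX_mul_right hf hcb hca l
    rw [← hdab] at e
    rwa [show sX f c d l = sX f c b l * sX f c a l * (sT f c (l ^ 2 * f a b))⁻¹ by rw [e, mul_inv_cancel_right],
      mul_assoc (sX f c b l), inv_mul_cancel_left, sT_inv hf] at h1
  refine ⟨c, hc0, ?_⟩
  by_cases hac : a ∈ Submodule.span F {c}
  · obtain ⟨j, hj⟩ := Submodule.mem_span_singleton.mp hac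
    have hj0 : j ≠ 0 := fun h0 => H.pA_ne hky (by rw [← ha, ← hj, h0, zero_smul])
    intro t
    have h1 := hN (t / (2 * j))
    have hab : f a b = 0 := by rw [← hj, smul_left' hf, hcb, mul_zero]
    rw [hab, mul_zero, neg_zero, sT_zero hf, mul_one, ← hj, sX_smul_right hf (hf.alternating c)] at h1
    convert h1 using 1
    refine gl_ext fun z => ?_
    rw [sT_mulVec hf, sX_mulVec hf (hf.alternating c)]
    match_scalars <;> field_simp <;> ring
  · obtain ⟨b₀, hb₀, hb₀0, hcb₀⟩ := H.perpA c hkx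
    have hab₀ : f a b₀ ≠ 0 := fun h0 => hac (H.lineA b₀ hb₀ hb₀0 c hkx hc0 hcb₀ a haA h0)
    obtain ⟨b', hb'⟩ : ∃ b', b' = (f a b₀)⁻¹ • b₀ := ⟨_, rfl⟩
    have hb'B : b' ∈ B := hb' ▸ B.smul_mem _ hb₀
    have hcb' : f c b' = 0 := by rw [hb', smul_right' hf, hcb₀, mul_zero]
    have hab' : f a b' = 1 := by rw [hb', smul_right' hf, inv_mul_cancel₀ hab₀]
    have hh := H.mem c hkx b' hb'B hcb' 1
    have hhc : (sX f c b' 1 : Matrix ι ι F) *ᵥ c = c := by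
      rw [sX_mulVec hf hcb', hf.alternating, hcb']; simp
    have hha : (sX f c b' 1 : Matrix ι ι F) *ᵥ a = a + c := by
      rw [sX_mulVec hf hcb', hab', H.singA a haA c hkx]; simp
    intro t
    have h1 := sX_ratio hf hca (hf.alternating c) hca (hN (t / 2)) hh (iso_sX hf _ _ _) hhc hha
    convert h1 using 1
    refine gl_ext fun z => ?_
    rw [sT_mulVec hf, sX_mulVec hf (hf.alternating c)]
    match_scalars <;> field_simp <;> ring

/-- An element fixing one half and moving the other. -/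
lemma of_fix (hf : Cfsg.Geo.IsSymplecticForm f) (H : Planes f M A B pA pB) (h2 : (2 : F) ≠ 0) {k : GL ι F}
    (hk : k ∈ M) (hki : Iso f k) (hA : ∀ x ∈ A, (k : Matrix ι ι F) *ᵥ x ∈ A) {y : ι → F} (hy : y ∈ B)
    (hky : (k : Matrix ι ι F) *ᵥ y ∉ B) : ∃ v, v ≠ 0 ∧ Full f M v := by
  obtain ⟨x, hx, hx0, hyx⟩ := H.perpB y hy
  exact H.key hf h2 hk hki hx hx0 hy (by rw [hf.skew, hyx, neg_zero]) (hA x hx) hky

/-- An element mapping some vector of a half into that half, without preserving both halves. -/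
lemma of_pure (hf : Cfsg.Geo.IsSymplecticForm f) (H : Planes f M A B pA pB) (h2 : (2 : F) ≠ 0) {t : F} (ht : t ≠ 0)
    (ht1 : t * t ≠ 1) {g : GL ι F} (hg : g ∈ M) (hgi : Iso f g) {x : ι → F} (hx : x ∈ A) (hx0 : x ≠ 0)
    (hgx : (g : Matrix ι ι F) *ᵥ x ∈ A)
    (hns : ¬ ((∀ z ∈ A, (g : Matrix ι ι F) *ᵥ z ∈ A) ∧ ∀ z ∈ B, (g : Matrix ι ι F) *ᵥ z ∈ B)) :
    ∃ v, v ≠ 0 ∧ Full f M v := by
  obtain ⟨d₀, hd₀, hd₀0, hxd₀⟩ := H.perpA x hx
  by_cases hd : (g : Matrix ι ι F) *ᵥ d₀ ∈ B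
  swap
  · exact H.key hf h2 hg hgi hx hx0 hd₀ hxd₀ hgx hd
  by_cases hA : ∀ z ∈ A, (g : Matrix ι ι F) *ᵥ z ∈ A
  · obtain ⟨y, hy, hgy⟩ : ∃ y ∈ B, (g : Matrix ι ι F) *ᵥ y ∉ B := by
      by_contra h
      simp only [not_exists, not_and, not_not] at h
      exact hns ⟨hA, h⟩
    exact H.of_fix hf h2 hg hgi hA hy hgy
  obtain ⟨d, hdd⟩ : ∃ d, d = (g : Matrix ι ι F) *ᵥ d₀ := ⟨_, rfl⟩
  rw [← hdd] at hd
  obtain ⟨a, ha, had⟩ := H.exists_one hf hd (hdd ▸ mulVec_ne_zero g hd₀0)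
  -- the conjugated torus fixes B
  have hfix : ∀ r : F, r ≠ 0 → (∃ v, v ≠ 0 ∧ Full f M v) ∨
      ∀ z ∈ A, ∃ w ∈ A, (g : Matrix ι ι F) *ᵥ w = ((r - 1) * f z d₀) • a -
        ((r⁻¹ - 1) * f ((g : Matrix ι ι F) *ᵥ z) a) • d := by
    intro r hr
    obtain ⟨h, hh, hi, hform⟩ := H.tor a ha d hd had r hr
    have hkM : g⁻¹ * h * g ∈ M := M.mul_mem (M.mul_mem (M.inv_mem hg) hh) hg
    have hki : Iso f (g⁻¹ * h * g) := (hgi.inv.mul hi).mul hgi
    have hk : ∀ z, ((g⁻¹ * h * g : GL ι F) : Matrix ι ι F) *ᵥ z =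
        z + ((g⁻¹ : GL ι F) : Matrix ι ι F) *ᵥ (((r - 1) * f ((g : Matrix ι ι F) *ᵥ z) d) • a -
          ((r⁻¹ - 1) * f ((g : Matrix ι ι F) *ᵥ z) a) • d) := fun z => by
      rw [mul_mulVec, mul_mulVec, hform, add_sub_assoc, mulVec_add, inv_mulVec_cancel]
    have hd' : ((g⁻¹ : GL ι F) : Matrix ι ι F) *ᵥ d = d₀ := by rw [hdd, inv_mulVec_cancel]
    by_cases hA' : ∀ z ∈ A, ((g⁻¹ * h * g : GL ι F) : Matrix ι ι F) *ᵥ z ∈ A
    · refine Or.inr fun z hz => ⟨_, A.sub_mem (hA' z hz) hz, ?_⟩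
      rw [hk, add_sub_cancel_left, mulVec_inv_cancel, hdd, hgi]
    · refine Or.inl ?_
      simp only [not_forall] at hA'
      obtain ⟨z, hz, hkz⟩ := hA'
      refine (H.symm hf).of_fix hf h2 hkM hki (fun y hy => ?_) hz hkz
      rw [hk, show f ((g : Matrix ι ι F) *ᵥ y) d = 0 by rw [hdd, hgi, H.singB y hy d₀ hd₀], mul_zero, zero_smul,
        zero_sub, mulVec_neg, mulVec_smul, hd']
      exact B.add_mem hy (B.neg_mem (B.smul_mem _ hd₀))
  rcases hfix (-1) (neg_ne_zero.mpr one_ne_zero) with h | h₁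
  · exact h
  rcases hfix t ht with h | h₂
  · exact h
  have htp : t + 1 ≠ 0 := fun h0 => ht1 (by linear_combination (t - 1) * h0)
  have htm : t - 1 ≠ 0 := fun h0 => ht1 (by linear_combination (t + 1) * h0)
  have hzero : ∀ z ∈ A, f ((g : Matrix ι ι F) *ᵥ z) a = 0 := by
    intro z hz
    obtain ⟨w₁, hw₁, e₁⟩ := h₁ z hz
    obtain ⟨w₂, hw₂, e₂⟩ := h₂ z hz
    have e3 : (g : Matrix ι ι F) *ᵥ (w₂ + ((t - 1) / 2) • w₁) =
        (g : Matrix ι ι F) *ᵥ (((t - 1) * ((t + 1) / t) * f ((g : Matrix ι ι F) *ᵥ z) a) • d₀) := by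
      rw [mulVec_add, mulVec_smul, mulVec_smul, e₁, e₂, ← hdd,
        show ((-1 : F))⁻¹ = -1 by rw [_root_.inv_neg, inv_one]]
      match_scalars <;> field_simp <;> ring
    have e4 := mulVec_injective g e3
    have e5 := H.inter hf (A.add_mem hw₂ (A.smul_mem _ hw₁)) (e4 ▸ B.smul_mem _ hd₀)
    rw [e4, smul_eq_zero] at e5
    rcases mul_eq_zero.mp (e5.resolve_right hd₀0) with h3 | h3
    · exact absurd h3 (mul_ne_zero htm (div_ne_zero htp ht))
    · exact h3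
  obtain ⟨a₀, ha₀, ha₀d⟩ := H.exists_one hf hd₀ hd₀0
  obtain ⟨w, hw, hgw⟩ : ∃ w ∈ A, (g : Matrix ι ι F) *ᵥ w = a := by
    obtain ⟨w₁, hw₁, e₁⟩ := h₁ a₀ ha₀
    refine ⟨((-1 - 1 : F))⁻¹ • w₁, A.smul_mem _ hw₁, ?_⟩
    rw [mulVec_smul, e₁, hzero a₀ ha₀, ha₀d, mul_one, mul_zero, zero_smul, sub_zero, smul_smul,
      inv_mul_cancel₀, one_smul]
    rw [show (-1 - 1 : F) = -2 by norm_num]
    exact neg_ne_zero.mpr h2
  refine absurd (fun z hz => ?_) hA
  have hwd : f w d₀ = 1 := by rw [← hgi, hgw, ← hdd, had]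
  obtain ⟨j, hj⟩ := Submodule.mem_span_singleton.mp (H.lineA d₀ hd₀ hd₀0 x hx hx0 hxd₀ (z - f z d₀ • w)
    (A.sub_mem hz (A.smul_mem _ hw)) (by rw [sub_left' hf, smul_left' hf, hwd, mul_one, sub_self]))
  rw [show z = j • x + f z d₀ • w by rw [hj, sub_add_cancel], mulVec_add, mulVec_smul, mulVec_smul, hgw]
  exact A.add_mem (A.smul_mem _ hgx) (A.smul_mem _ ha)

/-- An element under which no vector of a half stays in a half. -/
lemma of_mixed (hf : Cfsg.Geo.IsSymplecticForm f) (H : Planes f M A B pA pB) (h2 : (2 : F) ≠ 0) {t : F} (ht : t ≠ 0)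
    (ht1 : t * t ≠ 1) {a₁ : ι → F} (ha₁ : a₁ ∈ A) (ha₁0 : a₁ ≠ 0) {g : GL ι F} (hg : g ∈ M) (hgi : Iso f g)
    (hmix : ∀ x, x ≠ 0 → (x ∈ A ∨ x ∈ B) → (g : Matrix ι ι F) *ᵥ x ∉ A ∧ (g : Matrix ι ι F) *ᵥ x ∉ B) :
    ∃ v, v ≠ 0 ∧ Full f M v := by
  obtain ⟨z, hz⟩ : ∃ z : (ι → F) → ι → F, ∀ c, z c = ((g⁻¹ : GL ι F) : Matrix ι ι F) *ᵥ c := ⟨_, fun _ => rfl⟩
  have hgz : ∀ c, (g : Matrix ι ι F) *ᵥ z c = c := fun c => by rw [hz, mulVec_inv_cancel]
  have hne : ∀ c ∈ A, c ≠ 0 → pA (z c) ≠ 0 ∧ pB (z c) ≠ 0 := by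
    intro c hc hc0
    have hz0 : z c ≠ 0 := by rw [hz]; exact mulVec_ne_zero _ hc0
    exact ⟨H.pA_ne fun hm => (hmix _ hz0 (Or.inr hm)).1 (by rwa [hgz]),
      H.pB_ne fun hm => (hmix _ hz0 (Or.inl hm)).1 (by rwa [hgz])⟩
  obtain ⟨c, hc, hc0, hinv⟩ : ∃ c ∈ A, c ≠ 0 ∧ f (pA (z c)) (pB (z c)) ≠ 0 := by
    by_contra hcon
    have hq : ∀ c ∈ A, f (pA (z c)) (pB (z c)) = 0 := fun c hc => by
      by_cases hc0 : c = 0
      · rw [hc0, hz, mulVec_zero, map_zero, zero_left' hf]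
      by_contra hne'
      exact hcon ⟨c, hc, hc0, hne'⟩
    have hall : ∀ c ∈ A, ∀ c' ∈ A, f (pA (z c)) (pB (z c')) = 0 := by
      intro c hc c' hc'
      have e1 := hq _ (A.add_mem hc hc')
      have e2 : f (z c) (z c') = 0 := by rw [hz, hz, hgi.inv, H.singA c hc c' hc']
      rw [← H.split (z c), ← H.split (z c'), add_left' hf, add_right' hf, add_right' hf,
        H.singA _ (H.projA _) _ (H.projA _), H.singB _ (H.projB _) _ (H.projB _),
        hf.skew (pB (z c)) (pA (z c'))] at e2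
      rw [hz, mulVec_add, ← hz, ← hz, map_add, map_add, add_left' hf, add_right' hf, add_right' hf, hq c hc,
        hq c' hc'] at e1
      have e3 : 2 * f (pA (z c)) (pB (z c')) = 0 := by linear_combination e1 + e2
      exact (mul_eq_zero.mp e3).resolve_left h2
    obtain ⟨hx, hy⟩ := hne a₁ ha₁ ha₁0
    obtain ⟨b₁, hb₁, hb₁0, hab₁⟩ := H.perpA (pA (z a₁)) (H.projA _)
    obtain ⟨a₂, ha₂, ha₂0, ha₂i⟩ : ∃ a₂ ∈ A, a₂ ≠ 0 ∧ a₂ ∉ Submodule.span F {a₁} := by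
      obtain ⟨b, hb, hb0, hab⟩ := H.perpA a₁ ha₁
      obtain ⟨a, ha, had⟩ := H.exists_one hf hb hb0
      refine ⟨a, ha, fun h0 => ?_, fun hm => ?_⟩
      · rw [h0, zero_left' hf] at had; exact zero_ne_one had
      · obtain ⟨j, hj⟩ := Submodule.mem_span_singleton.mp hm
        rw [← hj, smul_left' hf, hab, mul_zero] at had
        exact zero_ne_one had
    obtain ⟨hx₂, -⟩ := hne a₂ ha₂ ha₂0
    -- the two A-components agree up to a scalar
    obtain ⟨j, hj⟩ := Submodule.mem_span_singleton.mp (H.lineA _ (H.projB (z a₁)) hy _ (H.projA _) hx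
      (hall a₁ ha₁ a₁ ha₁) _ (H.projA (z a₂)) (hall a₂ ha₂ a₁ ha₁))
    have hd0 : a₂ - j • a₁ ≠ 0 := fun h0 => ha₂i (by
      rw [sub_eq_zero.mp h0]; exact Submodule.smul_mem _ _ (Submodule.mem_span_singleton_self a₁))
    refine (hne _ (A.sub_mem ha₂ (A.smul_mem j ha₁)) hd0).1 ?_
    rw [hz, mulVec_sub, mulVec_smul, ← hz, ← hz, map_sub, map_smul, hj, sub_self]
  obtain ⟨hx0, hy0⟩ := hne c hc hc0
  obtain ⟨x, hx⟩ : ∃ x, x = pA (z c) := ⟨_, rfl⟩
  obtain ⟨y, hy⟩ : ∃ y, y = pB (z c) := ⟨_, rfl⟩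
  rw [← hx] at hx0 hinv
  rw [← hy] at hy0 hinv
  have hxA : x ∈ A := hx ▸ H.projA _
  have hyB : y ∈ B := hy ▸ H.projB _
  have hzc : z c = x + y := by rw [hx, hy, H.split]
  obtain ⟨g₀, hg₀, hg₀0, hxg⟩ := H.perpA x hxA
  obtain ⟨e₀, he₀, he₀0, hye⟩ := H.perpB y hyB
  have heg : f e₀ g₀ ≠ 0 := fun h0 => by
    obtain ⟨j, hj⟩ := Submodule.mem_span_singleton.mp (H.lineA g₀ hg₀ hg₀0 x hxA hx0 hxg e₀ he₀ h0)
    rw [← hj, smul_right' hf, mul_eq_zero, hf.skew y x, neg_eq_zero] at hye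
    exact he₀0 (by rw [← hj, hye.resolve_right hinv, zero_smul])
  obtain ⟨e, he⟩ : ∃ e, e = (f e₀ g₀)⁻¹ • e₀ := ⟨_, rfl⟩
  have heA : e ∈ A := he ▸ A.smul_mem _ he₀
  have heg1 : f e g₀ = 1 := by rw [he, smul_left' hf, inv_mul_cancel₀ heg]
  have hze : f (z c) e = 0 := by
    rw [hzc, add_left' hf, H.singA x hxA e heA, he, smul_right' hf, hye, mul_zero, add_zero]
  have hzg : f (z c) g₀ = 0 := by rw [hzc, add_left' hf, hxg, H.singB y hyB g₀ hg₀, add_zero]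
  obtain ⟨E, hE⟩ : ∃ E, E = (g : Matrix ι ι F) *ᵥ e := ⟨_, rfl⟩
  obtain ⟨G, hG⟩ : ∃ G, G = (g : Matrix ι ι F) *ᵥ g₀ := ⟨_, rfl⟩
  obtain ⟨d, hd, hd0, hcd⟩ := H.perpA c hc
  have hstep : ∀ r : F, r ≠ 0 → (∃ v, v ≠ 0 ∧ Full f M v) ∨
      ((r - 1) * f d G) • E - ((r⁻¹ - 1) * f d E) • G ∈ B := by
    intro r hr
    obtain ⟨h, hh, hi, hform⟩ := H.tor e heA g₀ hg₀ heg1 r hr
    have hk : ∀ v, ((g * h * g⁻¹ : GL ι F) : Matrix ι ι F) *ᵥ v =
        v + ((r - 1) * f v G) • E - ((r⁻¹ - 1) * f v E) • G := fun v => by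
      rw [mul_mulVec, mul_mulVec, hform, mulVec_sub, mulVec_add, mulVec_smul, mulVec_smul, mulVec_inv_cancel,
        ← hE, ← hG, ← hgi (((g⁻¹ : GL ι F) : Matrix ι ι F) *ᵥ v) g₀, ← hgi (((g⁻¹ : GL ι F) : Matrix ι ι F) *ᵥ v) e,
        mulVec_inv_cancel, ← hE, ← hG]
    by_cases hkd : ((g * h * g⁻¹ : GL ι F) : Matrix ι ι F) *ᵥ d ∈ B
    · refine Or.inr ?_
      have := B.sub_mem hkd hd
      rw [hk] at this
      convert this using 1
      abel
    · refine Or.inl (H.key hf h2 (M.mul_mem (M.mul_mem hg hh) (M.inv_mem hg)) ((hgi.mul hi).mul hgi.inv) hc hc0 hd hcd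
        ?_ hkd)
      rw [hk, hG, hE, ← hgz c, hgi, hgi, hze, hzg, hgz]
      simpa using hc
  rcases hstep (-1) (neg_ne_zero.mpr one_ne_zero) with h | h₁
  · exact h
  rcases hstep t ht with h | h₂
  · exact h
  exfalso
  have htp : t + 1 ≠ 0 := fun h0 => ht1 (by linear_combination (t - 1) * h0)
  have htm : t - 1 ≠ 0 := fun h0 => ht1 (by linear_combination (t + 1) * h0)
  have hmE : E ∉ B := by
    rw [hE]
    exact (hmix e (fun h0 => by rw [h0, zero_left' hf] at heg1; exact zero_ne_one heg1) (Or.inl heA)).2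
  have hmG : G ∉ B := by rw [hG]; exact (hmix g₀ hg₀0 (Or.inr hg₀)).2
  have hdE : f d E = 0 := by
    by_contra h0
    refine hmG ?_
    have h3 := B.smul_mem ((t - 1) * ((t + 1) / t) * f d E)⁻¹ (B.add_mem h₂ (B.smul_mem ((t - 1) / 2) h₁))
    rw [show ((-1 : F))⁻¹ = -1 by rw [_root_.inv_neg, inv_one]] at h3
    convert h3 using 1
    match_scalars <;> field_simp <;> ring
  have hdG : f d G = 0 := by
    by_contra h0
    refine hmE ?_
    rw [hdE, mul_zero, zero_smul, sub_zero] at h₁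
    have h3 := B.smul_mem ((-1 - 1 : F) * f d G)⁻¹ h₁
    rwa [inv_smul_smul₀] at h3
    rw [show (-1 - 1 : F) = -2 by norm_num]
    exact mul_ne_zero (neg_ne_zero.mpr h2) h0
  obtain ⟨w, hw⟩ : ∃ w, w = z d := ⟨_, rfl⟩
  have hwe : f w e = 0 := by rw [← hgi, hw, hgz, ← hE, hdE]
  have hwg : f w g₀ = 0 := by rw [← hgi, hw, hgz, ← hG, hdG]
  have hzw : f (z c) w = 0 := by rw [← hgi, hgz, hw, hgz, hcd]
  rw [← H.split w] at hwe hwg hzw
  rw [add_left' hf, H.singA _ (H.projA w) e heA, zero_add] at hwe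
  rw [add_left' hf, H.singB _ (H.projB w) g₀ hg₀, add_zero] at hwg
  obtain ⟨α, hα⟩ := Submodule.mem_span_singleton.mp (H.lineA g₀ hg₀ hg₀0 x hxA hx0 hxg _ (H.projA w) hwg)
  obtain ⟨β, hβ⟩ := Submodule.mem_span_singleton.mp (H.lineB e heA
    (fun h0 => by rw [h0, zero_left' hf] at heg1; exact zero_ne_one heg1) y hyB hy0
    (by rw [he, smul_right' hf, hye, mul_zero]) _ (H.projB w) hwe)
  rw [← hα, ← hβ, hzc, add_left' hf, add_right' hf, add_right' hf, smul_right' hf, smul_right' hf, smul_right' hf,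
    smul_right' hf, hf.alternating, hf.alternating, hf.skew y x] at hzw
  have hab : β = α := sub_eq_zero.mp ((mul_eq_zero.mp (show (β - α) * f x y = 0 by linear_combination hzw)).resolve_right hinv)
  have hdc : d = α • c := by
    rw [← hgz d, ← hw, ← H.split w, ← hα, ← hβ, hab, ← smul_add, ← hzc, mulVec_smul, hgz]
  exact hd0 (H.inter hf (hdc ▸ A.smul_mem α hc) hd)

/-- An element outside the stabiliser of the pair yields a group of transvections. -/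
theorem exists_full (hf : Cfsg.Geo.IsSymplecticForm f) (H : Planes f M A B pA pB) (h2 : (2 : F) ≠ 0) {t : F}
    (ht : t ≠ 0) (ht1 : t * t ≠ 1) {J : GL ι F} (hJ : J ∈ M) (hJi : Iso f J)
    (hJA : ∀ x ∈ A, (J : Matrix ι ι F) *ᵥ x ∈ B) (hJB : ∀ x ∈ B, (J : Matrix ι ι F) *ᵥ x ∈ A)
    {a₁ : ι → F} (ha₁ : a₁ ∈ A) (ha₁0 : a₁ ≠ 0) {g : GL ι F} (hg : g ∈ M) (hgi : Iso f g)
    (hns : ¬ ((∀ z ∈ A, (g : Matrix ι ι F) *ᵥ z ∈ A) ∧ ∀ z ∈ B, (g : Matrix ι ι F) *ᵥ z ∈ B))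
    (hns' : ¬ ((∀ z ∈ A, (g : Matrix ι ι F) *ᵥ z ∈ B) ∧ ∀ z ∈ B, (g : Matrix ι ι F) *ᵥ z ∈ A)) :
    ∃ v, v ≠ 0 ∧ Full f M v := by
  have hJA' : ∀ v, (J : Matrix ι ι F) *ᵥ v ∈ A → v ∈ B := by
    intro v hv
    rw [← H.split v, mulVec_add] at hv
    have h := H.inter hf ((A.add_mem_iff_left (hJB _ (H.projB v))).mp hv) (hJA _ (H.projA v))
    have h' : pA v = 0 := by
      by_contra hne
      exact mulVec_ne_zero J hne h
    rw [← H.split v, h', zero_add]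
    exact H.projB v
  have hJB' : ∀ v, (J : Matrix ι ι F) *ᵥ v ∈ B → v ∈ A := by
    intro v hv
    rw [← H.split v, mulVec_add] at hv
    have h := H.inter hf (hJB _ (H.projB v)) ((B.add_mem_iff_right (hJA _ (H.projA v))).mp hv)
    have h' : pB v = 0 := by
      by_contra hne
      exact mulVec_ne_zero J hne h
    rw [← H.split v, h', add_zero]
    exact H.projA v
  by_cases hp : ∃ x, x ≠ 0 ∧ (x ∈ A ∨ x ∈ B) ∧ ((g : Matrix ι ι F) *ᵥ x ∈ A ∨ (g : Matrix ι ι F) *ᵥ x ∈ B)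
  swap
  · simp only [not_exists, not_and, not_or] at hp
    exact H.of_mixed hf h2 ht ht1 ha₁ ha₁0 hg hgi hp
  obtain ⟨x, hx0, hx, hgx⟩ := hp
  rcases hx with hx | hx <;> rcases hgx with hgx | hgx
  · exact H.of_pure hf h2 ht ht1 hg hgi hx hx0 hgx hns
  · refine H.of_pure hf h2 ht ht1 (M.mul_mem hJ hg) (hJi.mul hgi) hx hx0 (by rw [mul_mulVec]; exact hJB _ hgx)
      fun h => hns' ⟨fun z hz => hJA' _ ?_, fun z hz => hJB' _ ?_⟩
    · rw [← mul_mulVec]; exact h.1 z hz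
    · rw [← mul_mulVec]; exact h.2 z hz
  · refine (H.symm hf).of_pure hf h2 ht ht1 (M.mul_mem hJ hg) (hJi.mul hgi) hx hx0
      (by rw [mul_mulVec]; exact hJA _ hgx) fun h => hns' ⟨fun z hz => hJA' _ ?_, fun z hz => hJB' _ ?_⟩
    · rw [← mul_mulVec]; exact h.2 z hz
    · rw [← mul_mulVec]; exact h.1 z hz
  · exact (H.symm hf).of_pure hf h2 ht ht1 hg hgi hx hx0 hgx fun h => hns ⟨h.2, h.1⟩

/-- From one vector of the first half to the whole half. -/
lemma full_half (hf : Cfsg.Geo.IsSymplecticForm f) (H : Planes f M A B pA pB) {a : ι → F} (ha : a ∈ A) (ha0 : a ≠ 0)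
    (hfull : Full f M a) : ∀ x ∈ A, Full f M x := by
  intro x hx
  by_cases hax : x ∈ Submodule.span F {a}
  · obtain ⟨j, rfl⟩ := Submodule.mem_span_singleton.mp hax
    exact full_smul hf hfull j
  obtain ⟨b, hb, hb0, hxb⟩ := H.perpA (x - a) (A.sub_mem hx ha)
  have hab : f a b ≠ 0 := fun h0 => hax (H.lineA b hb hb0 a ha ha0 h0 x hx (by
    rwa [sub_left' hf, h0, sub_zero] at hxb))
  obtain ⟨l, hl⟩ : ∃ l, l = (f a b)⁻¹ := ⟨_, rfl⟩
  have h := full_conj hf (H.mem _ (A.sub_mem hx ha) b hb hxb l) (iso_sX hf _ _ _) hfull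
  rw [sX_mulVec hf hxb, H.singA a ha _ (A.sub_mem hx ha), mul_zero, zero_smul, add_zero, hl, inv_mul_cancel₀ hab,
    one_smul, add_sub_cancel] at h
  exact h

/-- A mixed vector with non-zero invariant gives a vector of the first half. -/
lemma full_pure (hf : Cfsg.Geo.IsSymplecticForm f) (H : Planes f M A B pA pB) {t : F} (ht : t ≠ 0) (ht1 : t * t ≠ 1)
    {a b : ι → F} (ha : a ∈ A) (hb : b ∈ B) (hab : f a b ≠ 0) (hfull : Full f M (a + b)) :
    ∃ c, c ∈ A ∧ c ≠ 0 ∧ Full f M c := by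
  obtain ⟨r, hr⟩ : ∃ r, r = t⁻¹ := ⟨_, rfl⟩
  obtain ⟨h, hh, hi, hform⟩ := H.tor a ha ((f a b)⁻¹ • b) (B.smul_mem _ hb)
    (by rw [smul_right' hf, inv_mul_cancel₀ hab]) t ht
  have h1 := full_conj hf hh hi hfull
  rw [hform, add_left' hf, add_left' hf, smul_right' hf, smul_right' hf, hf.alternating, hf.alternating,
    hf.skew b a] at h1
  have himg : a + b + ((t - 1) * ((f a b)⁻¹ * f a b + (f a b)⁻¹ * 0)) • a -
      ((t⁻¹ - 1) * (0 + -f a b)) • ((f a b)⁻¹ • b) = t • a + r • b := by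
    rw [hr]
    match_scalars <;> field_simp <;> ring
  rw [himg] at h1
  have hne : f (a + b) (t • a + r • b) ≠ 0 := by
    rw [add_left' hf, add_right' hf, add_right' hf, smul_right' hf, smul_right' hf, smul_right' hf, smul_right' hf,
      hf.alternating, hf.alternating, hf.skew b a]
    intro h0
    refine ht1 ?_
    have e : (r - t) * f a b = 0 := by linear_combination h0
    have e' := sub_eq_zero.mp ((mul_eq_zero.mp e).resolve_right hab)
    rw [← mul_inv_cancel₀ ht, ← hr, e']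
  have h4 := full_add_smul hf hfull h1 hne (-t)
  rw [show a + b + (-t) • (t • a + r • b) = (1 - t * t) • a by rw [hr]; match_scalars <;> field_simp <;> ring] at h4
  exact ⟨_, A.smul_mem _ ha, smul_ne_zero (sub_ne_zero.mpr (Ne.symm ht1)) fun h0 => hab (by rw [h0, zero_left' hf]), h4⟩

/-- Everything is full as soon as one non-zero vector is. -/
theorem spread (hf : Cfsg.Geo.IsSymplecticForm f) (H : Planes f M A B pA pB) {t : F}
    (ht : t ≠ 0) (ht1 : t * t ≠ 1) {J : GL ι F} (hJ : J ∈ M) (hJi : Iso f J)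
    (hJA : ∀ x ∈ A, (J : Matrix ι ι F) *ᵥ x ∈ B) (hJB : ∀ x ∈ B, (J : Matrix ι ι F) *ᵥ x ∈ A)
    {u : ι → F} (hu0 : u ≠ 0) (hu : Full f M u) : ∀ x, Full f M x := by
  obtain ⟨p, hp, hp0, hpfull⟩ : ∃ p, p ∈ A ∧ p ≠ 0 ∧ Full f M p := by
    obtain ⟨a, ha⟩ : ∃ a, a = pA u := ⟨_, rfl⟩
    obtain ⟨b, hb⟩ : ∃ b, b = pB u := ⟨_, rfl⟩
    have haA : a ∈ A := ha ▸ H.projA u
    have hbB : b ∈ B := hb ▸ H.projB u
    have hab' : u = a + b := by rw [ha, hb, H.split]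
    subst hab'
    by_cases hb0 : b = 0
    · rw [hb0, add_zero] at hu hu0
      exact ⟨a, haA, hu0, hu⟩
    by_cases ha0 : a = 0
    · rw [ha0, zero_add] at hu
      exact ⟨_, hJB b hbB, mulVec_ne_zero J hb0, full_conj hf hJ hJi hu⟩
    by_cases hab : f a b = 0
    swap
    · exact H.full_pure hf ht ht1 haA hbB hab hu
    obtain ⟨e, he, heb⟩ := H.exists_one hf hbB hb0
    obtain ⟨g₀, hg₀, hg₀0, heg⟩ := H.perpA e he
    have hag : f a g₀ ≠ 0 := fun h0 => by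
      obtain ⟨j, hj⟩ := Submodule.mem_span_singleton.mp (H.lineA g₀ hg₀ hg₀0 e he
        (fun h1 => by rw [h1, zero_left' hf] at heb; exact zero_ne_one heb) heg a haA h0)
      rw [← hj, smul_left' hf, heb, mul_one] at hab
      exact ha0 (by rw [← hj, hab, zero_smul])
    obtain ⟨l, hl⟩ : ∃ l, l = (f a g₀)⁻¹ := ⟨_, rfl⟩
    have h1 := full_conj hf (H.mem e he g₀ hg₀ heg l) (iso_sX hf _ _ _) hu
    obtain ⟨h, hh, hi, hform⟩ := H.tor e he b hbB heb t ht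
    have hlg : l * f a g₀ = 1 := by rw [hl, inv_mul_cancel₀ hag]
    rw [sX_mulVec hf heg, add_left' hf, add_left' hf, H.singA a haA e he, H.singB b hbB g₀ hg₀,
      show f b e = -1 by rw [hf.skew, heb], zero_add, add_zero, hlg, one_smul] at h1
    have h2 := full_conj hf hh hi h1
    have hzero : ∀ x y : ι → F, x ∈ A → y ∈ A → f x y = 0 := fun x y hx hy => H.singA x hx y hy
    have hzero' : ∀ x y : ι → F, x ∈ B → y ∈ B → f x y = 0 := fun x y hx hy => H.singB x hx y hy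
    rw [hform] at h2
    simp only [add_left' hf, smul_left' hf, hf.alternating, hzero a e haA he, hzero' g₀ b hg₀ hbB, hab,
      hf.skew b e, hf.skew g₀ e, heb, heg] at h2
    have himg : a + b + (l * -1) • g₀ + e +
        ((t - 1) * (0 + 0 + l * -1 * 0 + 1)) • e - ((t⁻¹ - 1) * (0 + -1 + l * -1 * -0 + 0)) • b =
        (a + t • e) + (t⁻¹ • b + (-l) • g₀) := by module
    rw [himg] at h2
    have hne : f (a + b) (a + t • e + (t⁻¹ • b + (-l) • g₀)) ≠ 0 := by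
      simp only [add_left' hf, add_right' hf, smul_right' hf, hf.alternating, hzero a e haA he,
        hzero' b g₀ hbB hg₀, hab, hf.skew b a, hf.skew b e, heb]
      intro h0
      have htp : t + 1 = 0 := by linear_combination -h0 - hlg
      exact ht1 (by linear_combination (t - 1) * htp)
    have h4 := full_add_smul hf hu h2 hne 1
    rw [show a + b + (1 : F) • (a + t • e + (t⁻¹ • b + (-l) • g₀)) =
      ((2 : F) • a + t • e) + ((1 + t⁻¹) • b + (-l) • g₀) by module] at h4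
    refine H.full_pure hf ht ht1 (A.add_mem (A.smul_mem _ haA) (A.smul_mem _ he))
      (B.add_mem (B.smul_mem _ hbB) (B.smul_mem _ hg₀)) ?_ h4
    simp only [add_left' hf, add_right' hf, smul_left' hf, smul_right' hf, hab, heb, heg]
    intro h0
    have htm : t - 1 = 0 := by linear_combination h0 + 2 * hlg - mul_inv_cancel₀ ht
    exact ht1 (by linear_combination (t + 1) * htm)
  have hallA := H.full_half hf hp hp0 hpfull
  have hallB := (H.symm hf).full_half hf (hJA p hp) (mulVec_ne_zero J hp0) (full_conj hf hJ hJi hpfull)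
  intro x
  rw [← H.split x]
  obtain ⟨a, ha⟩ : ∃ a, a = pA x := ⟨_, rfl⟩
  obtain ⟨b, hb⟩ : ∃ b, b = pB x := ⟨_, rfl⟩
  have haA : a ∈ A := ha ▸ H.projA x
  have hbB : b ∈ B := hb ▸ H.projB x
  rw [← ha, ← hb]
  by_cases hb0 : b = 0
  · rw [hb0, add_zero]; exact hallA a haA
  by_cases hab : f a b = 0
  · obtain ⟨z, hzA, hzb⟩ := H.exists_one hf hbB hb0
    have h1 := full_add_smul hf (hallA z hzA) (hallB b hbB) (by rw [hzb]; exact one_ne_zero) 1
    rw [one_smul] at h1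
    have h3 : f (z + b) (a - z) ≠ 0 := by
      rw [add_left' hf, H.singA z hzA _ (A.sub_mem haA hzA), sub_right' hf, hf.skew b a, hab, hf.skew b z, hzb]
      simp
    have h4 := full_add_smul hf h1 (hallA _ (A.sub_mem haA hzA)) h3 1
    rwa [one_smul, show z + b + (a - z) = a + b by abel] at h4
  · simpa using full_add_smul hf (hallA a haA) (hallB b hbB) hab 1

end Planes

end CfsgLib.SpFourOdd
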