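/-
Stabilisers of two complementary Lagrangian planes are maximal in four-dimensional symplectic groups, q ≥ 5 odd.
-/
import Cfsg.Agent.Lib.SpFourOdd.Levi

set_option autoImplicit false
set_option linter.all false
open Cfsg

namespace CfsgLib.SpFourOdd

open CfsgLib.Transvec Matrix
open scoped MatrixGroups

section

variable {ι : Type} [Fintype ι] [DecidableEq ι] {F : Type*} [Field F] {f : (ι → F) → (ι → F) → F}

lemma exists_sq_ne_one [Fintype F] (h5 : 5 ≤ Fintype.card F) : ∃ t : F, t ≠ 0 ∧ t * t ≠ 1 := by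
  classical
  by_contra h
  simp only [not_exists, not_and, not_not] at h
  have h1 := Finset.card_le_card (fun x (_ : x ∈ (Finset.univ : Finset F)) => show x ∈ ({0, 1, -1} : Finset F) by
    by_cases hx : x = 0
    · simp [hx]
    · rcases mul_self_eq_one_iff.mp (h x hx) with e | e <;> simp [e])
  have h2 : ({0, 1, -1} : Finset F).card ≤ 3 := Finset.card_le_three
  rw [Finset.card_univ] at h1
  omega

/-- The torus element of a hyperbolic pair. -/
lemma exists_torus (hf : Cfsg.Geo.IsSymplecticForm f) {e g : ι → F} (heg : f e g = 1) {r : F} (hr : r ≠ 0) :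
    ∃ h : GL ι F, Iso f h ∧
      ∀ z, (h : Matrix ι ι F) *ᵥ z = z + ((r - 1) * f z g) • e - ((r⁻¹ - 1) * f z e) • g := by
  let σ : (ι → F) →ₗ[F] (ι → F) := LinearMap.id + ((r - 1) • (toBilin hf.bilinear).flip g).smulRight e -
    ((r⁻¹ - 1) • (toBilin hf.bilinear).flip e).smulRight g
  have hσ : ∀ z, σ z = z + ((r - 1) * f z g) • e - ((r⁻¹ - 1) * f z e) • g := fun z => rfl
  have hge : f g e = -1 := by rw [hf.skew, heg]
  have hiso : ∀ x y, f (σ x) (σ y) = f x y := fun x y => by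
    simp only [hσ, add_left' hf, sub_left' hf, smul_left' hf, add_right' hf, sub_right' hf, smul_right' hf,
      hf.alternating, heg, hge, hf.skew e y, hf.skew g y]
    field_simp
    ring
  refine ⟨glOfInjective σ (injective_of_isometric hf hiso), fun u v => by simpa using hiso u v, fun z => ?_⟩
  rw [glOfInjective_mulVec, hσ]

/-- The data of two Lagrangian planes from the dimensions. -/
lemma planes_of_dim (hf : Cfsg.Geo.IsSymplecticForm f) {M : Subgroup (GL ι F)} {A B : Submodule F (ι → F)}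
    {pA pB : (ι → F) →ₗ[F] (ι → F)} (projA : ∀ x, pA x ∈ A) (projB : ∀ x, pB x ∈ B) (split : ∀ x, pA x + pB x = x)
    (singA : ∀ x ∈ A, ∀ y ∈ A, f x y = 0) (singB : ∀ x ∈ B, ∀ y ∈ B, f x y = 0)
    (hdA : Module.finrank F A = 2) (hdB : Module.finrank F B = 2)
    (hmem : ∀ c ∈ A, ∀ d ∈ B, f c d = 0 → ∀ l, sX f c d l ∈ M)
    (hstab : ∀ h : GL ι F, Iso f h → (∀ x ∈ A, (h : Matrix ι ι F) *ᵥ x ∈ A) →
      (∀ x ∈ B, (h : Matrix ι ι F) *ᵥ x ∈ B) → h ∈ M) :
    Planes f M A B pA pB := by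
  have pair : ∀ (A B : Submodule F (ι → F)) (pA : (ι → F) →ₗ[F] (ι → F)) (pB : (ι → F) →ₗ[F] (ι → F)),
      (∀ x, pA x ∈ A) → (∀ x, pB x ∈ B) → (∀ x, pA x + pB x = x) →
      (∀ x ∈ A, ∀ y ∈ A, f x y = 0) → (∀ x ∈ B, ∀ y ∈ B, f x y = 0) → Module.finrank F A = 2 →
      (∀ d ∈ B, ∃ c ∈ A, c ≠ 0 ∧ f d c = 0) ∧
      ∀ d ∈ B, d ≠ 0 → ∀ c ∈ A, c ≠ 0 → f c d = 0 → ∀ x ∈ A, f x d = 0 → x ∈ Submodule.span F {c} := by
    intro A B pA pB projA projB split singA singB hdA
    obtain ⟨K, hK⟩ : ∃ K : (ι → F) → Submodule F (ι → F),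
        ∀ d, K d = A ⊓ LinearMap.ker ((toBilin hf.bilinear).flip d) := ⟨_, fun _ => rfl⟩
    have hKmem : ∀ d x, x ∈ K d ↔ x ∈ A ∧ f x d = 0 := fun d x => by rw [hK]; rfl
    refine ⟨fun d hd => ?_, fun d hd hd0 c hc hc0 hcd x hx hxd => ?_⟩
    · let T : A →ₗ[F] F := ((toBilin hf.bilinear).flip d).domRestrict A
      have h1 := LinearMap.finrank_range_add_finrank_ker T
      have h2 := Submodule.finrank_le (LinearMap.range T)
      rw [Module.finrank_self] at h2
      obtain ⟨y, hy, hy0⟩ := Submodule.exists_mem_ne_zero_of_ne_bot (p := LinearMap.ker T) fun h => by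
        rw [h, finrank_bot] at h1; omega
      exact ⟨y, y.2, fun h => hy0 (Subtype.ext h), by rw [hf.skew, show f (y : ι → F) d = 0 from hy, neg_zero]⟩
    have hlt : K d < A := lt_of_le_of_ne (fun y hy => ((hKmem d y).mp hy).1) fun he => by
      obtain ⟨z, hz⟩ := (hf.nondegenerate d hd0).1
      refine hz ?_
      have hzA : pA z ∈ K d := he.symm ▸ projA z
      rw [← split z, add_left' hf, ((hKmem d _).mp hzA).2, singB _ (projB z) d hd, add_zero]
    have hK1 := Submodule.finrank_lt_finrank_of_lt hlt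
    have hle : Submodule.span F {c} ≤ K d :=
      (Submodule.span_singleton_le_iff_mem _ _).mpr ((hKmem d c).mpr ⟨hc, hcd⟩)
    rw [Submodule.eq_of_le_of_finrank_le hle (by rw [finrank_span_singleton hc0]; omega)]
    exact (hKmem d x).mpr ⟨hx, hxd⟩
  obtain ⟨p1, l1⟩ := pair A B pA pB projA projB split singA singB hdA
  obtain ⟨p2, l2⟩ := pair B A pB pA projB projA (fun x => by rw [add_comm]; exact split x) singB singA hdB
  refine ⟨projA, projB, split, singA, singB, p2, p1, l1, l2, hmem, fun e he g hg heg r hr => ?_⟩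
  obtain ⟨h, hi, hz⟩ := exists_torus hf heg hr
  refine ⟨h, hstab h hi (fun x hx => ?_) (fun x hx => ?_), hi, hz⟩
  · rw [hz, singA x hx e he, mul_zero, zero_smul, sub_zero]
    exact A.add_mem hx (A.smul_mem _ he)
  · rw [hz, singB x hx g hg, mul_zero, zero_smul, add_zero]
    exact B.sub_mem hx (B.smul_mem _ hg)

end

/-- The general form of the statement. -/
theorem isMaximalIn_levi {F : Type*} [Field F] [Fintype F] (hodd : Odd (Fintype.card F)) (h5 : 5 ≤ Fintype.card F) (D : Fin 2 → Submodule F (Fin 2 ⊕ Fin 2 → F)) (hD : Cfsg.Geo.IsMDecomposition 2 D) (hts : ∀ i, Cfsg.Geo.IsTotallySingularFor (Cfsg.sympForm 2 F) (D i)) : Cfsg.Geo.IsMaximalIn (Cfsg.spGL 2 F) (Cfsg.Geo.decompositionStabilizer D ⊓ Cfsg.spGL 2 F) := by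
  classical
  have hf := isSymplecticForm_sympForm (F := F) 2
  have h2' : (2 : F) ≠ 0 := fun h => by
    haveI : CharP F 2 := CharTwo.of_one_ne_zero_of_two_eq_zero one_ne_zero h
    have := FiniteField.even_card_iff_char_two.mp (ringChar.eq F 2)
    rw [Nat.odd_iff] at hodd
    omega
  have hint : DirectSum.IsInternal D :=
    DirectSum.isInternal_submodule_of_iSupIndep_of_iSup_eq_top hD.indep hD.iSup_eq_top
  have hsplit : ∀ x, dcomp hint 0 x + dcomp hint 1 x = x := fun x => by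
    conv_rhs => rw [← sum_dcomp hint x, Fin.sum_univ_two]
  have hmaps : ∀ (g : GL (Fin 2 ⊕ Fin 2) F) (σ : Equiv.Perm (Fin 2)),
      (∀ i, ∀ x ∈ D i, (g : Matrix _ _ F) *ᵥ x ∈ D (σ i)) → g ∈ Cfsg.Geo.decompositionStabilizer D :=
    fun g σ h => ⟨σ, fun i => map_gl_eq_of_le g (by rw [hD.finrank_eq, hD.finrank_eq]) (h i)⟩
  have hX : ∀ c ∈ D 0, ∀ d ∈ D 1, Cfsg.sympForm 2 F c d = 0 → ∀ l, sX (Cfsg.sympForm 2 F) c d l ∈
      Cfsg.Geo.decompositionStabilizer D ⊓ Cfsg.spGL 2 F := by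
    intro c hc d hd hcd l
    refine ⟨hmaps _ 1 fun i x hx => ?_, iso_sX hf c d l⟩
    rw [sX_mulVec hf hcd, Equiv.Perm.one_apply]
    fin_cases i
    · simp only [Fin.zero_eta] at hx ⊢
      rw [hts 0 x hx c hc, mul_zero, zero_smul, add_zero]
      exact (D 0).add_mem hx ((D 0).smul_mem _ hc)
    · simp only [Fin.mk_one] at hx ⊢
      rw [hts 1 x hx d hd, mul_zero, zero_smul, add_zero]
      exact (D 1).add_mem hx ((D 1).smul_mem _ hd)
  -- an isometry interchanging the two halves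
  obtain ⟨J, hJi, hJ0, hJ1⟩ : ∃ J, Iso (Cfsg.sympForm 2 F) J ∧ (∀ x ∈ D 0, (J : Matrix _ _ F) *ᵥ x ∈ D 1) ∧
      ∀ x ∈ D 1, (J : Matrix _ _ F) *ᵥ x ∈ D 0 := by
    let b := Module.finBasisOfFinrankEq F (D 0) (hD.finrank_eq 0)
    let T : D 1 →ₗ[F] (Fin 2 → F) := LinearMap.pi fun i => ((toBilin hf.bilinear) (b i : Fin 2 ⊕ Fin 2 → F)).domRestrict (D 1)
    have hTi : Function.Injective T := by
      rw [injective_iff_map_eq_zero]
      intro y hy
      by_contra hy0
      have hy' : (y : Fin 2 ⊕ Fin 2 → F) ≠ 0 := fun h => hy0 (Subtype.ext h)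
      obtain ⟨z, hz⟩ := (hf.nondegenerate _ hy').1
      refine hz ?_
      rw [← hsplit z, add_left' hf, hts 1 _ (dcomp_mem hint 1 z) _ y.2, add_zero]
      have hspan : (⟨_, dcomp_mem hint 0 z⟩ : D 0) ∈ Submodule.span F (Set.range b) := by rw [b.span_eq]; trivial
      refine Submodule.span_induction (p := fun (w : D 0) _ => Cfsg.sympForm 2 F (w : Fin 2 ⊕ Fin 2 → F) y = 0)
        ?_ (zero_left' hf _) ?_ ?_ hspan
      · rintro _ ⟨i, rfl⟩; exact congrFun hy i
      · intro u v _ _ hu hv; rw [Submodule.coe_add, add_left' hf, hu, hv, add_zero]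
      · intro a u _ hu; rw [Submodule.coe_smul, smul_left' hf, hu, mul_zero]
    have hTs : Function.Surjective T :=
      (LinearMap.injective_iff_surjective_of_finrank_eq_finrank (by rw [hD.finrank_eq, Module.finrank_fin_fun])).mp hTi
    choose g hg using fun i => hTs (Pi.single i 1)
    obtain ⟨e, he⟩ : ∃ e : Fin 2 → (Fin 2 ⊕ Fin 2 → F), ∀ i, e i = (b i : Fin 2 ⊕ Fin 2 → F) := ⟨_, fun _ => rfl⟩
    obtain ⟨g', hg'⟩ : ∃ g' : Fin 2 → (Fin 2 ⊕ Fin 2 → F), ∀ i, g' i = (g i : Fin 2 ⊕ Fin 2 → F) := ⟨_, fun _ => rfl⟩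
    have heD : ∀ i, e i ∈ D 0 := fun i => he i ▸ (b i).2
    have hgD : ∀ i, g' i ∈ D 1 := fun i => hg' i ▸ (g i).2
    have heg : ∀ i j, Cfsg.sympForm 2 F (e i) (g' j) = (Pi.single j 1 : Fin 2 → F) i := fun i j => by
      rw [← congrFun (hg j) i, he, hg']; rfl
    -- expansion in the dual bases
    obtain ⟨B, hB⟩ : ∃ B, B = toBilin hf.bilinear := ⟨_, rfl⟩
    have hBapp : ∀ x y, B x y = Cfsg.sympForm 2 F x y := fun x y => by rw [hB]; rfl
    have hexp : ∀ x, x = ∑ i, B x (g' i) • e i - ∑ i, B x (e i) • g' i := by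
      intro x
      refine sub_eq_zero.mp ?_
      by_contra hne
      obtain ⟨z, hz⟩ := (hf.nondegenerate _ hne).1
      refine hz ?_
      rw [← hsplit z]
      have key : ∀ y, (y ∈ D 0 ∨ y ∈ D 1) →
          Cfsg.sympForm 2 F y (x - (∑ i, B x (g' i) • e i - ∑ i, B x (e i) • g' i)) = 0 := by
        have base : ∀ j, Cfsg.sympForm 2 F (e j) (x - (∑ i, B x (g' i) • e i - ∑ i, B x (e i) • g' i)) = 0 ∧
            Cfsg.sympForm 2 F (g' j) (x - (∑ i, B x (g' i) • e i - ∑ i, B x (e i) • g' i)) = 0 := by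
          intro j
          simp only [← hBapp, map_sub, map_sum, map_smul, smul_eq_mul]
          simp only [hBapp, hts 0 _ (heD _) _ (heD _), hts 1 _ (hgD _) _ (hgD _), hf.skew (g' _) (e _), heg,
            hf.skew (e j) x, hf.skew (g' j) x]
          simp [Pi.single_apply]
        have hgspan : ∀ y : D 1, (y : Fin 2 ⊕ Fin 2 → F) = ∑ i, T y i • g' i := fun y => by
          have : y = ∑ i, T y i • g i := hTi (by
            rw [map_sum]
            simp only [map_smul, hg]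
            funext k
            simp [Finset.sum_apply, Pi.single_apply])
          conv_lhs => rw [this]
          simp [hg']
        rintro y (hy | hy)
        · have hspan : (⟨y, hy⟩ : D 0) ∈ Submodule.span F (Set.range b) := by rw [b.span_eq]; trivial
          refine Submodule.span_induction (p := fun (w : D 0) _ => Cfsg.sympForm 2 F (w : Fin 2 ⊕ Fin 2 → F) _ = 0)
            ?_ (zero_left' hf _) ?_ ?_ hspan
          · rintro _ ⟨i, rfl⟩; rw [← he]; exact (base i).1
          · intro u v _ _ hu hv; rw [Submodule.coe_add, add_left' hf, hu, hv, add_zero]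
          · intro a u _ hu; rw [Submodule.coe_smul, smul_left' hf, hu, mul_zero]
        · have h := hgspan ⟨y, hy⟩
          simp only at h
          rw [h, ← hBapp, map_sum, LinearMap.sum_apply]
          refine Finset.sum_eq_zero fun i _ => ?_
          rw [map_smul, LinearMap.smul_apply, hBapp, (base i).2, smul_zero]
      rw [add_left' hf, key _ (Or.inl (dcomp_mem hint 0 z)), key _ (Or.inr (dcomp_mem hint 1 z)), add_zero]
    let σ : (Fin 2 ⊕ Fin 2 → F) →ₗ[F] (Fin 2 ⊕ Fin 2 → F) :=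
      ∑ i, ((B.flip (g' i)).smulRight (g' i) + (B.flip (e i)).smulRight (e i))
    have hσ : ∀ x, σ x = ∑ i, (B x (g' i) • g' i + B x (e i) • e i) := fun x => by simp [σ]
    have hiso : ∀ x y, Cfsg.sympForm 2 F (σ x) (σ y) = Cfsg.sympForm 2 F x y := by
      intro x y
      conv_rhs => rw [hexp x, hexp y]
      simp only [hσ, ← hBapp]
      simp only [map_sum, map_add, map_sub, map_smul, LinearMap.sum_apply, LinearMap.add_apply, LinearMap.sub_apply,
        LinearMap.smul_apply, smul_eq_mul]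
      simp only [hBapp, hts 0 _ (heD _) _ (heD _), hts 1 _ (hgD _) _ (hgD _), hf.skew (g' _) (e _), heg]
      simp [Finset.sum_add_distrib, Finset.sum_sub_distrib, Pi.single_apply, Finset.mul_sum]
      ring
    refine ⟨glOfInjective σ (injective_of_isometric hf hiso), fun u v => by simpa using hiso u v, fun x hx => ?_,
      fun x hx => ?_⟩ <;> rw [glOfInjective_mulVec, hσ] <;> refine Submodule.sum_mem _ fun i _ => ?_
    · rw [hBapp x (e i), hts 0 x hx _ (heD i), zero_smul, add_zero]; exact (D 1).smul_mem _ (hgD i)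
    · rw [hBapp x (g' i), hts 1 x hx _ (hgD i), zero_smul, zero_add]; exact (D 0).smul_mem _ (heD i)
  refine ⟨lt_of_le_not_ge inf_le_right fun hle => ?_, fun M hHM hMK => ?_⟩
  · obtain ⟨a, ha, ha0⟩ := Submodule.exists_mem_ne_zero_of_ne_bot (p := D 0) fun h => by
      have := hD.finrank_eq 0; rw [h, finrank_bot] at this; omega
    obtain ⟨z, hz⟩ := (hf.nondegenerate a ha0).2
    obtain ⟨b, hb⟩ : ∃ b, b = dcomp hint 1 z := ⟨_, rfl⟩
    have hab : Cfsg.sympForm 2 F a b ≠ 0 := by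
      rw [← hsplit z, add_right' hf, hts 0 a ha _ (dcomp_mem hint 0 z), zero_add, ← hb] at hz
      exact hz
    have hbD : b ∈ D 1 := hb ▸ dcomp_mem hint 1 z
    obtain ⟨σ, hσ⟩ := (hle (sT_mem_spGL 2 b 1)).1
    have h : (sT (Cfsg.sympForm 2 F) b 1 : Matrix _ _ F) *ᵥ a ∈ D (σ 0) := by
      rw [← hσ 0]; exact Submodule.mem_map.mpr ⟨a, ha, by rw [Matrix.toLin'_apply]⟩
    rw [sT_mulVec hf, one_mul] at h
    have h0 := dcomp_of_mem hint h 0
    have h1 := dcomp_of_mem hint h 1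
    rw [map_add, map_smul, dcomp_of_mem hint ha, dcomp_of_mem hint hbD] at h0 h1
    by_cases hs : σ 0 = 0
    · rw [hs] at h1
      simp at h1
      rcases h1 with h1 | h1
      · exact hab h1
      · exact hab (by rw [h1, zero_right' hf])
    · rw [if_neg (Ne.symm hs)] at h0
      simp at h0
      exact ha0 h0
  by_cases hM : M ≤ Cfsg.Geo.decompositionStabilizer D
  · exact Or.inl (le_antisymm (le_inf hM hMK) hHM)
  right
  obtain ⟨g, hgM, hgD⟩ := SetLike.not_le_iff_exists.mp hM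
  have hgi : Iso (Cfsg.sympForm 2 F) g := hMK hgM
  obtain ⟨A, hA⟩ : ∃ A, A = D 0 := ⟨_, rfl⟩
  obtain ⟨B, hB⟩ : ∃ B, B = D 1 := ⟨_, rfl⟩
  have H : Planes (Cfsg.sympForm 2 F) M A B (dcomp hint 0) (dcomp hint 1) := by
    subst hA hB
    refine planes_of_dim hf (fun x => dcomp_mem hint 0 x) (fun x => dcomp_mem hint 1 x) hsplit (hts 0) (hts 1)
      (hD.finrank_eq 0) (hD.finrank_eq 1) (fun c hc d hd h l => hHM (hX c hc d hd h l)) fun h hi h0 h1 =>
      hHM ⟨hmaps h 1 fun i x hx => ?_, hi⟩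
    rw [Equiv.Perm.one_apply]
    fin_cases i
    · exact h0 x hx
    · exact h1 x hx
  have hJM : J ∈ M := hHM ⟨hmaps J (Equiv.swap 0 1) (fun i x hx => by
    fin_cases i
    · simpa using hJ0 x hx
    · simpa using hJ1 x hx), hJi⟩
  obtain ⟨t, ht, ht1⟩ := exists_sq_ne_one h5
  rw [← hA] at hJ0 hJ1
  rw [← hB] at hJ0 hJ1
  obtain ⟨a₁, ha₁, ha₁0⟩ := Submodule.exists_mem_ne_zero_of_ne_bot (p := A) fun h => by
    have := hD.finrank_eq 0; rw [← hA, h, finrank_bot] at this; omega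
  obtain ⟨u, hu0, hu⟩ := H.exists_full hf h2' ht ht1 hJM hJi hJ0 hJ1 ha₁ ha₁0 hgM hgi
    (fun h => hgD (hmaps g 1 fun i x hx => by
      rw [Equiv.Perm.one_apply]
      fin_cases i
      · exact hA ▸ h.1 x (hA.symm ▸ hx)
      · exact hB ▸ h.2 x (hB.symm ▸ hx)))
    fun h => hgD (hmaps g (Equiv.swap 0 1) fun i x hx => by
      fin_cases i
      · simpa [hB] using h.1 x (hA.symm ▸ hx)
      · simpa [hA] using h.2 x (hB.symm ▸ hx))
  exact le_antisymm hMK (spGL_le_of_full (H.spread hf ht ht1 hJM hJi hJ0 hJ1 hu0 hu))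

end CfsgLib.SpFourOdd
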