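/-
The symplectic group over a subfield of prime index in dimension four, odd characteristic: the transvection closure
argument.
-/
import Cfsg.Agent.Lib.Transvec.SpSubfield

set_option autoImplicit false
set_option linter.all false

namespace CfsgLib.SpFourOdd

open Matrix CfsgLib.Transvec CfsgLib.Transvec.SpSubfield
open scoped MatrixGroups

variable {ι : Type} [Fintype ι] [DecidableEq ι] {F : Type*} [Field F] {f : (ι → F) → (ι → F) → F}

section Generic

variable (hf : Cfsg.Geo.IsSymplecticForm f) {M : Subgroup (GL ι F)}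
include hf

/-- The involution negating a hyperbolic pair. -/
lemma exists_neg_pair {E G : ι → F} (hEG : f E G = 1) (hE : sT f E 1 ∈ M) (hG : sT f G 1 ∈ M) :
    ∃ H ∈ M, Iso f H ∧ ∀ z, (H : Matrix ι ι F) *ᵥ z = z - (2 * f z G) • E + (2 * f z E) • G := by
  have hwM := M.mul_mem (M.mul_mem hE hG) hE
  have hwI : Iso f (sT f E 1 * sT f G 1 * sT f E 1) := ((iso_sT hf _ _).mul (iso_sT hf _ _)).mul (iso_sT hf _ _)
  refine ⟨(sT f E 1 * sT f G 1 * sT f E 1) * (sT f E 1 * sT f G 1 * sT f E 1), M.mul_mem hwM hwM,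
    hwI.mul hwI, fun z => ?_⟩
  have hGE : f G E = -1 := by rw [hf.skew, hEG]
  simp only [mul_mulVec, sT_mulVec hf, add_left' hf, smul_left' hf, hf.alternating, hEG, hGE]
  module

/-- An isometry fixing one centre and negating the other separates a short from a long root element. -/
lemma split_short {a b : ι → F} (hab : f a b = 0) {l ν : F} (hmem : sX f a b l * sT f a ν ∈ M) {h : GL ι F}
    (hh : h ∈ M) (hi : Iso f h)
    (hs : ((h : Matrix ι ι F) *ᵥ a = -a ∧ (h : Matrix ι ι F) *ᵥ b = b) ∨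
      ((h : Matrix ι ι F) *ᵥ a = a ∧ (h : Matrix ι ι F) *ᵥ b = -b)) :
    sX f a b (2 * l) ∈ M ∧ sT f a (2 * ν) ∈ M := by
  have h1 : sX f a b (-l) * sT f a ν ∈ M := by
    have h2 := M.mul_mem (M.mul_mem hh hmem) (M.inv_mem hh)
    rw [show h * (sX f a b l * sT f a ν) * h⁻¹ = (h * sX f a b l * h⁻¹) * (h * sT f a ν * h⁻¹) by group,
      conj_sX hf hi, conj_sT_iso hf hi] at h2
    rcases hs with ⟨ha, hb⟩ | ⟨ha, hb⟩
    · rwa [ha, hb, ← neg_one_smul F a, sX_smul_left hf hab, sT_smul hf, neg_one_sq, one_mul, neg_one_mul] at h2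
    · rwa [ha, hb, ← neg_one_smul F b, sX_smul_right hf hab, neg_one_mul] at h2
  have hc := commute_sX_sT hf hab (-l) ν
  constructor
  · have h3 := M.mul_mem hmem (M.inv_mem h1)
    rwa [show ∀ p q r : GL ι F, p * q * (r * q)⁻¹ = p * r⁻¹ from fun p q r => by group, sX_inv hf hab, sX_mul hf hab,
      neg_neg, ← two_mul] at h3
  · have h3 := M.mul_mem hmem h1
    rwa [show sX f a b l * sT f a ν * (sX f a b (-l) * sT f a ν) =
        sX f a b l * (sT f a ν * sX f a b (-l)) * sT f a ν by group, ← hc.eq, ← mul_assoc, sX_mul hf hab,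
      add_neg_cancel, sX_zero hf hab, one_mul, sT_mul hf, ← two_mul] at h3

end Generic

variable {F₀ : Subfield F} {P : GL ι F} (hf : Cfsg.Geo.IsSymplecticForm f)
  (hR : ∀ u v : ι → F₀, f (rv P u) (rv P v) ∈ F₀) (h2 : (2 : F) ≠ 0)

include hf h2

/-- Some orthogonal pair of rational vectors has a non-rational product. -/
lemma exists_pair_not_mem_four (h4 : 4 ≤ Fintype.card ι) {v : ι → F} (hv : ∀ (l : F) (r : ι → F₀), v ≠ l • rv P r) :
    ∃ x y : ι → F₀, rForm hR x y = 0 ∧ x ∉ Submodule.span F₀ {y} ∧ y ≠ 0 ∧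
      f v (rv P x) * f v (rv P y) ∉ F₀ := by
  classical
  have hB := isSymplectic_rForm hf hR
  obtain ⟨a, ha⟩ : ∃ a : (ι → F₀) → F, ∀ x, a x = f v (rv P x) := ⟨_, fun _ => rfl⟩
  have hadd : ∀ x y, a (x + y) = a x + a y := fun x y => by rw [ha, ha, ha, rv_add, add_right' hf]
  have hsmul : ∀ (c : F₀) x, a (c • x) = (c : F) * a x := fun c x => by rw [ha, ha, rv_smul, smul_right' hf]
  have hzero : a 0 = 0 := by rw [ha, rv_zero, zero_right' hf]
  by_contra hcon
  simp only [not_exists, not_and, not_not] at hcon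
  have hor : ∀ x y, rForm hR x y = 0 → x ∉ Submodule.span F₀ {y} → y ≠ 0 → a x * a y ∈ F₀ := fun x y h1 h3 h5 => by
    rw [ha, ha]
    exact hcon x y h1 h3 h5
  have hsq : ∀ x, a x * a x ∈ F₀ := by
    intro x
    by_cases hx : a x = 0
    · rw [hx, mul_zero]; exact zero_mem F₀
    have hx0 : x ≠ 0 := fun h => hx (by rw [h, hzero])
    obtain ⟨y, hy, hyx⟩ := SetLike.not_le_iff_exists.mp
      (fun hle : (toBilin hB.bilinear).orthogonal (Submodule.span F₀ {x}) ≤ Submodule.span F₀ {x} => by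
        have h1 := Submodule.finrank_mono hle
        rw [LinearMap.BilinForm.finrank_orthogonal (bilin_nondegenerate hB),
          Module.finrank_fintype_fun_eq_card, finrank_span_singleton hx0] at h1
        omega)
    have hxy : rForm hR x y = 0 :=
      LinearMap.BilinForm.mem_orthogonal_iff.mp hy x (Submodule.mem_span_singleton_self x)
    have hxs : ∀ z, z ∉ Submodule.span F₀ {x} → x ∉ Submodule.span F₀ {z} := fun z hz hm => by
      obtain ⟨j, hj⟩ := Submodule.mem_span_singleton.mp hm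
      exact hz (Submodule.mem_span_singleton.mpr
        ⟨j⁻¹, by rw [← hj, inv_smul_smul₀ (fun h0 => hx0 (by rw [← hj, h0, zero_smul]))]⟩)
    have hne : ∀ z, z ∉ Submodule.span F₀ {x} → z ≠ 0 := fun z hz h0 => hz (h0 ▸ Submodule.zero_mem _)
    have hyx' : y + x ∉ Submodule.span F₀ {x} := fun hm =>
      hyx (by simpa using Submodule.sub_mem _ hm (Submodule.mem_span_singleton_self x))
    have h1 := hor x y hxy (hxs _ hyx) (hne _ hyx)
    have h3 := hor x (y + x) (by rw [add_right' hB, hxy, hB.alternating, add_zero]) (hxs _ hyx') (hne _ hyx')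
    rw [hadd, mul_add] at h3
    simpa using sub_mem h3 h1
  have hmul : ∀ x y, a x * a y ∈ F₀ := fun x y => by
    have h := sub_mem (sub_mem (hsq (x + y)) (hsq x)) (hsq y)
    rw [hadd, show (a x + a y) * (a x + a y) - a x * a x - a y * a y = 2 * (a x * a y) by ring] at h
    have h3 := div_mem h (show (2 : F) ∈ F₀ from by exact_mod_cast natCast_mem F₀ 2)
    rwa [mul_div_cancel_left₀ _ h2] at h3
  obtain ⟨x0, hx0⟩ : ∃ x0, a x0 ≠ 0 := by
    by_contra h
    simp only [not_exists, not_not] at h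
    exact hv 0 0 (by
      rw [zero_smul]
      exact eq_zero_of_rv (F₀ := F₀) (P := P) hf fun u => by rw [hf.skew, ← ha, h, neg_zero])
  have hratio : ∀ x, a x / a x0 ∈ F₀ := fun x => by
    have := div_mem (hmul x x0) (hsq x0)
    rwa [mul_div_mul_right _ _ hx0] at this
  obtain ⟨φ, hφ⟩ : ∃ φ : ι → F₀, ∀ j, (φ j : F) = a (Pi.single j 1) / a x0 :=
    ⟨fun j => ⟨_, hratio (Pi.single j 1)⟩, fun _ => rfl⟩
  obtain ⟨r, hr⟩ := fvec_surjective hB φ
  have hval : ∀ j, f (rv P (Pi.single j 1 : ι → F₀)) (rv P r) = a (Pi.single j 1) / a x0 := fun j => by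
    rw [← hφ, ← hr]; rfl
  refine hv (-a x0) r (sub_eq_zero.mp (eq_zero_of_rv (F₀ := F₀) (P := P) hf fun u => ?_))
  have hu : u = ∑ j, u j • (Pi.single j 1 : ι → F₀) := by
    funext i; simp [Finset.sum_apply, Pi.single_apply]
  let T : (ι → F₀) →+ F :=
    { toFun := fun u => f (rv P u) (v - (-a x0) • rv P r)
      map_zero' := by rw [rv_zero, zero_left' hf]
      map_add' := fun x y => by rw [rv_add, add_left' hf] }
  change T u = 0
  rw [hu, map_sum]
  refine Finset.sum_eq_zero fun j _ => ?_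
  change f (rv P (u j • (Pi.single j 1 : ι → F₀))) (v - (-a x0) • rv P r) = 0
  rw [rv_smul, smul_left' hf, sub_right' hf, smul_right' hf, hval, hf.skew _ v, ← ha]
  field_simp
  ring


variable {M : Subgroup (GL ι F)}

/-- A subgroup containing the rational symplectic group and one non-rational transvection contains every
transvection. -/
theorem all_full_four [Finite F] (hdim : 4 ≤ Fintype.card ι) (hgen : ∀ R : Subfield F, F₀ < R → R = ⊤)
    (hM : ∀ h : GL ι F₀, Iso (rForm hR) h → subfieldHom F₀ P h ∈ M) {v : ι → F}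
    (hv : ∀ (l : F) (r : ι → F₀), v ≠ l • rv P r) (hvM : sT f v 1 ∈ M) : ∀ x, Full f M x := by
  classical
  haveI := Fintype.ofFinite F
  have hB := isSymplectic_rForm hf hR
  have hall : ∀ w, Full (rForm hR) (M.comap (subfieldHom F₀ P)) w := fun w c => hM _ (iso_sT hB w c)
  have hTrat : ∀ (w : ι → F₀) (c : F₀), sT f (rv P w) (c : F) ∈ M := by
    intro w c
    have e : subfieldHom F₀ P (sT (rForm hR) w c) = sT f (rv P w) (c : F) := gl_ext_rv (P := P) fun u => by
      rw [hom_rv, sT_mulVec hB, rv_add, rv_smul, sT_mulVec hf]; rfl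
    rw [← e]; exact hall w c
  have hfz : ∀ {s u : ι → F₀}, rForm hR s u = 0 → f (rv P s) (rv P u) = 0 := fun h => congrArg Subtype.val h
  have hXrat : ∀ (s u : ι → F₀) (c : F₀), sX f (rv P s) (rv P u) (c : F) ∈ M := by
    intro s u c
    rw [sX, ← rv_add]
    have h1 := hTrat s (-c)
    have h2 := hTrat u (-c)
    push_cast at h1 h2
    exact M.mul_mem (M.mul_mem (hTrat _ c) h1) h2
  -- scalars
  obtain ⟨LA, hLA⟩ : ∃ LA : Set F, ∀ l, l ∈ LA ↔ ∀ r : ι → F₀, sT f (rv P r) l ∈ M :=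
    ⟨{l | ∀ r : ι → F₀, sT f (rv P r) l ∈ M}, fun _ => Iff.rfl⟩
  obtain ⟨LB, hLB⟩ : ∃ LB : Set F, ∀ l, l ∈ LB ↔ ∀ s u : ι → F₀,
      rForm hR s u = 0 → s ∉ Submodule.span F₀ {u} → u ≠ 0 → sX f (rv P s) (rv P u) l ∈ M :=
    ⟨{l | ∀ s u : ι → F₀,
      rForm hR s u = 0 → s ∉ Submodule.span F₀ {u} → u ≠ 0 → sX f (rv P s) (rv P u) l ∈ M}, fun _ => Iff.rfl⟩
  have moveA : ∀ (r : ι → F₀) (l : F), r ≠ 0 → sT f (rv P r) l ∈ M → l ∈ LA := by
    intro r l hr hm
    rw [hLA]
    intro r'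
    by_cases hr' : r' = 0
    · rw [hr', rv_zero]
      have : sT f (0 : ι → F) l = 1 := gl_ext fun x => by rw [sT_mulVec hf]; simp
      rw [this]; exact M.one_mem
    obtain ⟨h, hh, hi, he, -⟩ := exists_move_fix hB hall (⊥ : Submodule F₀ (ι → F₀)) (v := r) (b := r')
      (by simpa using hr) (by simpa using hr')
      (fun e he => by rw [(Submodule.mem_bot F₀).mp he, zero_left' hB, zero_left' hB])
    have h1 := M.mul_mem (M.mul_mem (Subgroup.mem_comap.mp hh) hm) (M.inv_mem (Subgroup.mem_comap.mp hh))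
    rwa [conj_sT_iso hf (iso_hom hf hR hi), hom_rv, he] at h1
  have moveB : ∀ (s u : ι → F₀) (l : F), rForm hR s u = 0 → s ∉ Submodule.span F₀ {u} → u ≠ 0 →
      sX f (rv P s) (rv P u) l ∈ M → l ∈ LB := by
    intro s u l hsu hs hu hm
    rw [hLB]
    intro s' u' hsu' hs' hu'
    obtain ⟨h₁, hh₁, hi₁, he₁, -⟩ := exists_move_fix hB hall (⊥ : Submodule F₀ (ι → F₀)) (v := u) (b := u')
      (by simpa using hu) (by simpa using hu')
      (fun e he => by rw [(Submodule.mem_bot F₀).mp he, zero_left' hB, zero_left' hB])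
    have hb₁ : (h₁ : Matrix ι ι F₀) *ᵥ s ∉ Submodule.span F₀ {u'} := fun hm => by
      obtain ⟨j, hj⟩ := Submodule.mem_span_singleton.mp hm
      refine hs (Submodule.mem_span_singleton.mpr ⟨j, mulVec_injective h₁ ?_⟩)
      simp only [mulVec_smul, he₁, hj]
    obtain ⟨h₂, hh₂, hi₂, he₂, hfix₂⟩ := exists_move_fix hB hall (Submodule.span F₀ {u'})
      (v := (h₁ : Matrix ι ι F₀) *ᵥ s) (b := s') hb₁ hs' (fun e he => by
        obtain ⟨j, rfl⟩ := Submodule.mem_span_singleton.mp he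
        rw [smul_left' hB, smul_left' hB, hB.skew u' s', hsu', neg_zero]
        conv_lhs => rw [← he₁, hi₁, hB.skew, hsu, neg_zero])
    have hmem : subfieldHom F₀ P (h₂ * h₁) ∈ M := Subgroup.mem_comap.mp (mul_mem hh₂ hh₁)
    have h1 := M.mul_mem (M.mul_mem hmem hm) (M.inv_mem hmem)
    rwa [conj_sX hf (iso_hom hf hR (hi₂.mul hi₁)), hom_rv, hom_rv, mul_mulVec, mul_mulVec, he₁, he₂,
      hfix₂ u' (Submodule.mem_span_singleton_self u')] at h1
  have hA0 : ∀ c : F₀, (c : F) ∈ LA := fun c => (hLA _).mpr fun r => hTrat r c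
  have hB0 : ∀ c : F₀, (c : F) ∈ LB := fun c => (hLB _).mpr fun s u _ _ _ => hXrat s u c
  have hA1 : (1 : F) ∈ LA := by simpa using hA0 1
  have hB1 : (1 : F) ∈ LB := by simpa using hB0 1
  have hAadd : ∀ {a b}, a ∈ LA → b ∈ LA → a + b ∈ LA := fun ha hb => (hLA _).mpr fun r => by
    rw [← sT_mul hf]; exact M.mul_mem ((hLA _).mp ha r) ((hLA _).mp hb r)
  have hAneg : ∀ {a}, a ∈ LA → -a ∈ LA := fun ha => (hLA _).mpr fun r => by
    rw [← sT_inv hf]; exact M.inv_mem ((hLA _).mp ha r)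
  have hBadd : ∀ {a b}, a ∈ LB → b ∈ LB → a + b ∈ LB := fun ha hb => (hLB _).mpr fun s u h1 h2 h3 => by
    rw [← sX_mul hf (hfz h1)]; exact M.mul_mem ((hLB _).mp ha s u h1 h2 h3) ((hLB _).mp hb s u h1 h2 h3)
  have hBneg : ∀ {a}, a ∈ LB → -a ∈ LB := fun ha => (hLB _).mpr fun s u h1 h2 h3 => by
    rw [← sX_inv hf (hfz h1)]; exact M.inv_mem ((hLB _).mp ha s u h1 h2 h3)
  -- frames
  have hfr : ∀ {k : ℕ} {e g : Fin k → ι → F₀}, Frame (rForm hR) e g →
      Frame f (fun i => rv P (e i)) (fun i => rv P (g i)) := by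
    intro k e g h
    refine ⟨fun i j => hfz (h.ee i j), fun i j => hfz (h.gg i j), fun i j => ?_⟩
    have := congrArg Subtype.val (h.eg i j)
    simp only [rForm] at this
    rw [this]
    split_ifs <;> rfl
  have hgood : ∀ {k : ℕ} {e g : Fin k → ι → F₀}, Frame (rForm hR) e g → ∀ i j, i ≠ j →
      e i ∉ Submodule.span F₀ {e j} ∧ e j ≠ 0 := by
    intro k e g h i j hij
    refine ⟨fun hm => ?_, fun h0 => ?_⟩
    · obtain ⟨c, hc⟩ := Submodule.mem_span_singleton.mp hm
      have h1 := h.eg i i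
      rw [if_pos rfl, ← hc, smul_left' hB, h.eg, if_neg hij.symm, mul_zero] at h1
      exact zero_ne_one h1
    · have h1 := h.eg j j
      rw [if_pos rfl, h0, zero_left' hB] at h1
      exact zero_ne_one h1
  have hone : ((1 : F₀) : F) = 1 := rfl
  have hT1 : ∀ r : ι → F₀, sT f (rv P r) 1 ∈ M := fun r => hone ▸ hTrat r 1
  have half : ∀ S : Set F, (∀ {a b}, a ∈ S → b ∈ S → a + b ∈ S) → ∀ {l}, 2 * l ∈ S → l ∈ S := by
    intro S hadd l hl
    have hmap : ∀ z ∈ S, 2 * z ∈ S := fun z hz => by rw [two_mul]; exact hadd hz hz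
    have hinj : Function.Injective (fun z : S => (⟨2 * z, hmap _ z.2⟩ : S)) := fun z z' h =>
      Subtype.ext (mul_left_cancel₀ h2 (congrArg Subtype.val h))
    obtain ⟨z, hz⟩ := Finite.injective_iff_surjective.mp hinj ⟨_, hl⟩
    have e : 2 * (z : F) = 2 * l := congrArg Subtype.val hz
    exact mul_left_cancel₀ h2 e ▸ z.2
  have hneg : ∀ {k : ℕ} {e g : Fin k → ι → F₀}, Frame (rForm hR) e g → ∀ i,
      ∃ H ∈ M, Iso f H ∧ ∀ z, (H : Matrix ι ι F) *ᵥ z =
        z - (2 * f z (rv P (g i))) • rv P (e i) + (2 * f z (rv P (e i))) • rv P (g i) :=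
    fun {k e g} h i => exists_neg_pair hf (by rw [(hfr h).eg, if_pos rfl]) (hT1 _) (hT1 _)
  -- the basic rule
  have rule : ∀ {l c}, l ∈ LB → c ∈ LA → l * c ∈ LB ∧ l ^ 2 * c ∈ LA := by
    intro l c hl hc
    have hnd : ∀ w ∈ (⊤ : Submodule F₀ (ι → F₀)), w ≠ 0 → ∃ z ∈ (⊤ : Submodule F₀ (ι → F₀)), rForm hR z w ≠ 0 :=
      fun w _ hw => by obtain ⟨z, hz⟩ := (hB.nondegenerate w hw).1; exact ⟨z, trivial, hz⟩
    obtain ⟨e, g, h, -, -⟩ := exists_frame hB 2 hnd (by rw [finrank_top, Module.finrank_fintype_fun_eq_card]; omega)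
    have h' := hfr h
    obtain ⟨E0, hE0⟩ : ∃ E0, E0 = rv P (e 0) := ⟨_, rfl⟩
    obtain ⟨E1, hE1⟩ : ∃ E1, E1 = rv P (e 1) := ⟨_, rfl⟩
    obtain ⟨G1, hG1⟩ : ∃ G1, G1 = rv P (g 1) := ⟨_, rfl⟩
    have e01 : f E0 E1 = 0 := hE0 ▸ hE1 ▸ h'.ee 0 1
    have g01 : f E0 G1 = 0 := by rw [hE0, hG1, h'.eg]; simp
    have g11 : f E1 G1 = 1 := by rw [hE1, hG1, h'.eg]; simp
    have G10 : f G1 E0 = 0 := by rw [hf.skew, g01, neg_zero]
    have G11 : f G1 E1 = -1 := by rw [hf.skew, g11]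
    have hX : sX f E0 E1 l ∈ M :=
      hE0 ▸ hE1 ▸ (hLB _).mp hl _ _ (h.ee 0 1) (hgood h 0 1 (by decide)).1 (hgood h 0 1 (by decide)).2
    have hT : sT f G1 c ∈ M := hG1 ▸ (hLA _).mp hc _
    have h1 := M.mul_mem (M.mul_mem hX hT) (M.inv_mem hX)
    rw [conj_sT_iso hf (iso_sX hf _ _ _), sX_mulVec hf e01, G10, G11, mul_zero, zero_smul, add_zero,
      sT_add_smul hf g01] at h1
    have hZ : sX f E0 G1 (l * -1 * c) * sT f E0 ((l * -1) ^ 2 * c) ∈ M := by
      have := M.mul_mem (M.inv_mem hT) h1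
      rwa [mul_assoc (sT f G1 c), inv_mul_cancel_left] at this
    obtain ⟨H, hHM, hHI, hH⟩ := hneg h 1
    rw [← hE1, ← hG1] at hH
    obtain ⟨hs, ht⟩ := split_short hf g01 hZ hHM hHI (Or.inr
      ⟨by rw [hH, g01, e01]; simp, by rw [hH, hf.alternating, G11]; module⟩)
    have hgi : e 0 ∉ Submodule.span F₀ {g 1} ∧ g 1 ≠ 0 := by
      refine ⟨fun hm => ?_, fun h0 => ?_⟩
      · obtain ⟨j, hj⟩ := Submodule.mem_span_singleton.mp hm
        have h4 := h.eg 0 0
        rw [if_pos rfl, ← hj, smul_left' hB, h.gg, mul_zero] at h4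
        exact zero_ne_one h4
      · have h4 := h.eg 1 1
        rw [if_pos rfl, h0, zero_right' hB] at h4
        exact zero_ne_one h4
    rw [hE0, hG1] at hs
    rw [hE0] at ht
    have hs' := hBneg (moveB _ _ _ (by rw [h.eg, if_neg (by decide)]) hgi.1 hgi.2 hs)
    rw [show -(2 * (l * -1 * c)) = 2 * (l * c) by ring] at hs'
    have ht' := moveA (e 0) _ (hgood h 1 0 (by decide)).2 ht
    rw [show 2 * ((l * -1) ^ 2 * c) = 2 * (l ^ 2 * c) by ring] at ht'
    exact ⟨half LB hBadd hs', half LA hAadd ht'⟩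
  -- a non-rational short scalar
  obtain ⟨μ₀, hμ₀, hμ₀'⟩ : ∃ μ, μ ∈ LB ∧ μ ∉ F₀ := by
    obtain ⟨x, y, hxy, hxys, hy0, hprod⟩ := exists_pair_not_mem_four hf hR h2 hdim hv
    obtain ⟨e, g, h, he0, he1⟩ := exists_frame_extend hB (k := 0) (by omega) hxy hxys hy0
    have h' := hfr h
    obtain ⟨E0, hE0⟩ : ∃ z, z = rv P (e 0) := ⟨_, rfl⟩
    obtain ⟨G0, hG0⟩ : ∃ z, z = rv P (g 0) := ⟨_, rfl⟩
    obtain ⟨E1, hE1⟩ : ∃ z, z = rv P (e 1) := ⟨_, rfl⟩
    obtain ⟨G1, hG1⟩ : ∃ z, z = rv P (g 1) := ⟨_, rfl⟩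
    have e0g0 : f E0 G0 = 1 := by rw [hE0, hG0, h'.eg, if_pos rfl]
    have e1g1 : f E1 G1 = 1 := by rw [hE1, hG1, h'.eg, if_pos rfl]
    obtain ⟨H0, hH0M, hH0I, hH0⟩ := hneg h 0
    obtain ⟨H1, hH1M, hH1I, hH1⟩ := hneg h 1
    rw [← hE0, ← hG0] at hH0
    rw [← hE1, ← hG1] at hH1
    have g0e0 : f G0 E0 = -1 := by rw [hf.skew, e0g0]
    have z01 : f E0 E1 = 0 := by rw [hE0, hE1]; exact h'.ee 0 1
    have z01' : f E0 G1 = 0 := by rw [hE0, hG1, h'.eg]; simp
    have z10' : f E1 G0 = 0 := by rw [hE1, hG0, h'.eg]; simp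
    have z10 : f E1 E0 = 0 := by rw [hf.skew, z01, neg_zero]
    have y01 : f G0 E1 = 0 := by rw [hf.skew, z10', neg_zero]
    obtain ⟨a, ha⟩ : ∃ a, a = f v G0 • E0 - f v E0 • G0 := ⟨_, rfl⟩
    obtain ⟨b, hb⟩ : ∃ b, b = v - a := ⟨_, rfl⟩
    have hab : f a b = 0 := by
      simp only [hb, ha, sub_left' hf, sub_right' hf, smul_left' hf, smul_right' hf, hf.alternating, e0g0, g0e0,
        hf.skew E0 v, hf.skew G0 v]
      ring
    have hba : f b a = 0 := by rw [hf.skew, hab, neg_zero]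
    have hva : v = b + (1 : F) • a := by rw [hb, one_smul, sub_add_cancel]
    have c1 := M.mul_mem (M.mul_mem hH0M hvM) (M.inv_mem hH0M)
    rw [conj_sT_iso hf hH0I, hH0,
      show v - (2 * f v G0) • E0 + (2 * f v E0) • G0 = b + (-1 : F) • a by rw [hb, ha]; module,
      sT_add_smul hf hab] at c1
    have hvM' := hvM
    rw [hva, sT_add_smul hf hab] at hvM'
    have h2' : sX f a b (-2) ∈ M := by
      have h1 := M.mul_mem c1 (M.inv_mem hvM')
      have hc : Commute (sX f a b (-2)) (sT f b 1) := by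
        rw [sX_comm hf hab]
        exact commute_sX_sT hf hba _ _
      have e2 : sT f b 1 * sX f a b (-1 * 1) * sT f a ((-1) ^ 2 * 1) *
          (sT f b 1 * sX f a b (1 * 1) * sT f a (1 ^ 2 * 1))⁻¹ = sX f a b (-2) := by
        rw [show ((-1 : F)) ^ 2 * 1 = 1 by ring, show (1 : F) ^ 2 * 1 = 1 by ring,
          show (-1 : F) * 1 = -2 + 1 by ring, show (1 : F) * 1 = 1 by ring, ← sX_mul hf hab]
        calc sT f b 1 * (sX f a b (-2) * sX f a b 1) * sT f a 1 * (sT f b 1 * sX f a b 1 * sT f a 1)⁻¹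
            = sT f b 1 * sX f a b (-2) * (sT f b 1)⁻¹ := by group
          _ = sX f a b (-2) := by rw [← hc.eq, mul_inv_cancel_right]
      rwa [e2] at h1
    rw [sX_comm hf hab] at h2'
    -- isolate the first coordinate
    have hfa : f a E0 = f v E0 := by simp [ha, sub_left' hf, smul_left' hf, hf.alternating, g0e0]
    have hbE0 : f b E0 = 0 := by rw [hb, sub_left' hf, hfa, sub_self]
    have hbG0 : f b G0 = 0 := by
      have : f a G0 = f v G0 := by simp [ha, sub_left' hf, smul_left' hf, hf.alternating, e0g0]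
      rw [hb, sub_left' hf, this, sub_self]
    have hT0 : sT f E0 1 ∈ M := hE0 ▸ hT1 _
    have c3 := M.mul_mem (M.mul_mem hT0 h2') (M.inv_mem hT0)
    rw [conj_sX hf (iso_sT hf _ _), sT_fix hf hbE0, sT_mulVec hf, one_mul, hfa] at c3
    obtain ⟨ν, hν⟩ : ∃ ν, ν = (-2 : F) ^ 2 * f (f v E0 • E0) a := ⟨_, rfl⟩
    have hbe : f b (f v E0 • E0) = 0 := by rw [smul_right' hf, hbE0, mul_zero]
    have hsplit := sX_mul_right hf hba hbe (-2)
    rw [← hν] at hsplit
    have hW1 : sX f b E0 (f v E0 * -2) * sT f b (-ν) ∈ M := by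
      have h1 := M.mul_mem (M.inv_mem h2') c3
      have e3 : sX f b (a + f v E0 • E0) (-2) =
          sX f b a (-2) * (sX f b (f v E0 • E0) (-2) * (sT f b ν)⁻¹) := by
        rw [← mul_assoc, hsplit, mul_inv_cancel_right]
      rw [e3, inv_mul_cancel_left, sX_smul_right hf hbE0, sT_inv hf] at h1
      exact h1
    have hP1 := (split_short hf hbE0 hW1 hH0M hH0I (Or.inr
      ⟨by rw [hH0, hbE0, hbG0]; simp, by rw [hH0, e0g0, hf.alternating]; module⟩)).1
    rw [sX_comm hf hbE0] at hP1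
    -- isolate the second coordinate
    have hE0b : f E0 b = 0 := by rw [hf.skew, hbE0, neg_zero]
    have hbE1 : f b E1 = f v E1 := by
      have : f a E1 = 0 := by simp [ha, sub_left' hf, smul_left' hf, z01, y01]
      rw [hb, sub_left' hf, this, sub_zero]
    have hT1' : sT f E1 1 ∈ M := hE1 ▸ hT1 _
    have c5 := M.mul_mem (M.mul_mem hT1' hP1) (M.inv_mem hT1')
    rw [conj_sX hf (iso_sT hf _ _), sT_fix hf z01, sT_mulVec hf, one_mul, hbE1] at c5
    have hbe' : f E0 (f v E1 • E1) = 0 := by rw [smul_right' hf, z01, mul_zero]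
    obtain ⟨l, hl⟩ : ∃ l, l = 2 * (f v E0 * -2) := ⟨_, rfl⟩
    rw [← hl] at hP1 c5
    have hsplit' := sX_mul_right hf hE0b hbe' l
    obtain ⟨ν', hν'⟩ : ∃ ν, ν = l ^ 2 * f (f v E1 • E1) b := ⟨_, rfl⟩
    rw [← hν'] at hsplit'
    have hW2 : sX f E0 E1 (f v E1 * l) * sT f E0 (-ν') ∈ M := by
      have h1 := M.mul_mem (M.inv_mem hP1) c5
      have e5 : sX f E0 (b + f v E1 • E1) l =
          sX f E0 b l * (sX f E0 (f v E1 • E1) l * (sT f E0 ν')⁻¹) := by
        rw [← mul_assoc, hsplit', mul_inv_cancel_right]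
      rw [e5, inv_mul_cancel_left, sX_smul_right hf z01, sT_inv hf] at h1
      exact h1
    have h6 := (split_short hf z01 hW2 hH1M hH1I (Or.inr
      ⟨by rw [hH1, z01', z01]; simp, by rw [hH1, e1g1, hf.alternating]; module⟩)).1
    rw [hE0, hE1] at h6
    refine ⟨_, moveB _ _ _ (h.ee 0 1) (hgood h 0 1 (by decide)).1 (hgood h 0 1 (by decide)).2 h6,
      fun hmem => hprod ?_⟩
    rw [hl, hE0] at hmem
    have h8 := div_mem hmem (show (-8 : F) ∈ F₀ from neg_mem (by exact_mod_cast natCast_mem F₀ 8))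
    rw [← he0, ← he1]
    have h8' : (8 : F) ≠ 0 := by
      rw [show (8 : F) = 2 * 2 * 2 by norm_num]
      exact mul_ne_zero (mul_ne_zero h2 h2) h2
    convert h8 using 1
    field_simp
    ring
  -- a non-rational long scalar
  obtain ⟨μ, hμ, hμ'⟩ : ∃ μ, μ ∈ LA ∧ μ ∉ F₀ := by
    have hsq : μ₀ ^ 2 ∈ LA := by simpa using (rule hμ₀ hA1).2
    by_cases hs : μ₀ ^ 2 ∈ F₀
    swap
    · exact ⟨_, hsq, hs⟩
    have h2μ : 2 * μ₀ ∈ LA := by
      have := hAadd (hAadd (rule (hBadd hμ₀ hB1) hA1).2 (hAneg hA1)) (hAneg hsq)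
      rwa [show (μ₀ + 1) ^ 2 * 1 + -1 + -μ₀ ^ 2 = 2 * μ₀ by ring] at this
    refine ⟨_, h2μ, fun hmem => ?_⟩
    have := div_mem hmem (show (2 : F) ∈ F₀ from by exact_mod_cast natCast_mem F₀ 2)
    rw [mul_div_cancel_left₀ μ₀ h2] at this
    exact hμ₀' this
  -- all scalars are short
  let R : Subfield F :=
    { carrier := {z | ∀ b ∈ LB, z * b ∈ LB}
      one_mem' := fun b hb => by rwa [one_mul]
      mul_mem' := fun {a c} ha hc b hb => by rw [mul_assoc]; exact ha _ (hc b hb)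
      zero_mem' := fun b _ => by rw [zero_mul]; exact hB0 0
      add_mem' := fun {a c} ha hc b hb => by rw [add_mul]; exact hBadd (ha b hb) (hc b hb)
      neg_mem' := fun {a} ha b hb => by rw [neg_mul]; exact hBneg (ha b hb)
      inv_mem' := by
        intro a ha b hb
        by_cases h0 : a = 0
        · rw [h0, _root_.inv_zero, zero_mul]; exact hB0 0
        have hinj : Function.Injective (fun z : LB => (⟨a * z, ha _ z.2⟩ : LB)) := fun z z' h =>
          Subtype.ext (mul_left_cancel₀ h0 (congrArg Subtype.val h))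
        obtain ⟨⟨z, hz⟩, hzb⟩ := Finite.injective_iff_surjective.mp hinj ⟨b, hb⟩
        rw [← show a * z = b from congrArg Subtype.val hzb, inv_mul_cancel_left₀ h0]
        exact hz }
  have hAR : ∀ {c}, c ∈ LA → c ∈ R := fun hc b hb => by rw [mul_comm]; exact (rule hb hc).1
  have htop : R = ⊤ := hgen R (lt_of_le_not_ge (fun c hc => hAR (hA0 ⟨c, hc⟩)) fun h => hμ' (h (hAR hμ)))
  have hallB : ∀ l, l ∈ LB := fun l => by
    have h : l ∈ R := by rw [htop]; trivial
    simpa using h 1 hB1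
  have hallA : ∀ l, l ∈ LA := by
    intro l
    have h1 := (rule (hallB (l / 2)) hA1).2
    have h3 := hAadd (hAadd (rule (hallB (l / 2 + 1)) hA1).2 (hAneg hA1)) (hAneg h1)
    rwa [show (l / 2 + 1) ^ 2 * 1 + -1 + -((l / 2) ^ 2 * 1) = l by field_simp; ring] at h3
  -- spreading
  have hstep : ∀ x (w : ι → F₀) (d : F), Full f M x → Full f M (x + d • rv P w) := by
    intro x w d hx
    have hw : Full f M (rv P w) := fun c => (hLA c).mp (hallA c) w
    by_cases h : f x (rv P w) = 0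
    swap
    · exact full_add_smul hf hx hw h d
    by_cases hw0 : w = 0
    · rw [hw0, rv_zero, smul_zero, add_zero]; exact hx
    by_cases hex : ∃ w', rForm hR w w' = 0 ∧ f x (rv P w') ≠ 0
    · obtain ⟨w', hww', hxw'⟩ := hex
      have hws : w ∉ Submodule.span F₀ {w'} := fun hm => by
        obtain ⟨j, hj⟩ := Submodule.mem_span_singleton.mp hm
        rw [← hj, rv_smul, smul_right' hf, mul_eq_zero, or_iff_left hxw'] at h
        exact hw0 (by rw [← hj, show j = 0 from Subtype.ext h, zero_smul])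
      have hw'0 : w' ≠ 0 := fun h0 => hxw' (by rw [h0, rv_zero, zero_right' hf])
      have hmem := (hLB _).mp (hallB (d / f x (rv P w'))) w w' hww' hws hw'0
      have h1 := full_conj hf hmem (iso_sX hf _ _ _) hx
      rwa [sX_mulVec hf (hfz hww'), h, mul_zero, zero_smul, add_zero, div_mul_cancel₀ d hxw'] at h1
    simp only [not_exists, not_and, not_not] at hex
    -- then x is a multiple of the rational vector
    obtain ⟨z, hz⟩ : ∃ z, rForm hR w z ≠ 0 := (hB.nondegenerate w hw0).2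
    have hz' : f (rv P w) (rv P z) ≠ 0 := fun h0 => hz (Subtype.ext h0)
    obtain ⟨k, hk⟩ : ∃ k, k = f x (rv P z) / f (rv P w) (rv P z) := ⟨_, rfl⟩
    have hxk : x = k • rv P w := by
      refine sub_eq_zero.mp (eq_zero_of_rv (F₀ := F₀) (P := P) hf fun u => ?_)
      have h2 := hex (u - (rForm hR w u / rForm hR w z) • z) (by
        rw [sub_right' hB, smul_right' hB, div_mul_cancel₀ _ hz, sub_self])
      have hrv : rv P (u - (rForm hR w u / rForm hR w z) • z) =
          rv P u - ((rForm hR w u / rForm hR w z : F₀) : F) • rv P z :=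
        eq_sub_of_add_eq (by rw [← rv_smul, ← rv_add, sub_add_cancel])
      rw [hrv, sub_right' hf, smul_right' hf] at h2
      rw [hf.skew, sub_left' hf, smul_left' hf, hk]
      simp only [rForm, Subfield.coe_div] at h2
      field_simp at h2 ⊢
      linear_combination -h2
    rw [hxk, ← add_smul]
    exact full_smul hf hw _
  intro x
  have hspan : ∀ (y : ι → F) (w : Finset ι), Full f M (∑ i ∈ w, y i • rv P (Pi.single i 1 : ι → F₀)) := by
    intro y w
    induction w using Finset.induction_on with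
    | empty => rw [Finset.sum_empty]; exact full_zero hf
    | @insert i w hi ih => rw [Finset.sum_insert hi, add_comm]; exact hstep _ _ _ ih
  obtain ⟨y, rfl⟩ : ∃ y, (P : Matrix ι ι F) *ᵥ y = x := ⟨_, mulVec_inv_cancel P x⟩
  have hy : (P : Matrix ι ι F) *ᵥ y = ∑ i, y i • rv P (Pi.single i 1 : ι → F₀) := by
    simp only [rv, coeVec_single, ← mulVec_smul, ← mulVec_sum]
    congr 1
    funext j
    simp [Finset.sum_apply, Pi.single_apply]
  rw [hy]
  exact hspan y _


end CfsgLib.SpFourOdd
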