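/-
A skew square root of a non-square in four-dimensional symplectic space, odd characteristic: overgroups of the
group of isometries commuting or anticommuting with it.
-/
import Cfsg.Agent.Lib.Transvec.ShortRoot
import Cfsg.Agent.Lib.Transvec.Stabilizer

set_option autoImplicit false
set_option linter.all false

namespace CfsgLib.SpFourOdd

open Matrix CfsgLib.Transvec
open scoped MatrixGroups

variable {ι : Type} [Fintype ι] [DecidableEq ι] {F : Type*} [Field F] {f : (ι → F) → (ι → F) → F}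

/-- A linear map with non-square square, skew for the form. -/
structure QJ (f : (ι → F) → (ι → F) → F) (J : (ι → F) →ₗ[F] (ι → F)) (ν : F) : Prop where
  symp : Cfsg.Geo.IsSymplecticForm f
  sq : ∀ x, J (J x) = ν • x
  skew : ∀ x y, f (J x) y = -f x (J y)
  nsq : ∀ t : F, t * t ≠ ν
  two : (2 : F) ≠ 0
  card : Fintype.card ι = 4

/-- A hyperbolic pair of isotropic lines over the quadratic extension. -/
structure Fr (f : (ι → F) → (ι → F) → F) (J : (ι → F) →ₗ[F] (ι → F)) (v w : ι → F) : Prop where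
  vv : f (J v) v = 0
  ww : f (J w) w = 0
  vw : f v w = 1
  jvw : f (J v) w = 0

/-- Semilinearity for the extension. -/
def NJ (J : (ι → F) →ₗ[F] (ι → F)) (g : GL ι F) : Prop :=
  ∃ ε : F, ε * ε = 1 ∧ ∀ x, (g : Matrix ι ι F) *ᵥ J x = ε • J ((g : Matrix ι ι F) *ᵥ x)

lemma NJ.mul {J : (ι → F) →ₗ[F] (ι → F)} {g h : GL ι F} (hg : NJ J g) (hh : NJ J h) : NJ J (g * h) := by
  obtain ⟨a, ha, hg⟩ := hg
  obtain ⟨b, hb, hh⟩ := hh
  refine ⟨b * a, by linear_combination (a * a) * hb + ha, fun x => ?_⟩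
  rw [mul_mulVec, hh, mulVec_smul, hg, smul_smul, mul_mulVec]

lemma NJ.inv {J : (ι → F) →ₗ[F] (ι → F)} {g : GL ι F} (hg : NJ J g) : NJ J g⁻¹ := by
  obtain ⟨a, ha, hg⟩ := hg
  refine ⟨a, ha, fun x => mulVec_injective g ?_⟩
  simp only [mulVec_inv_cancel, mulVec_smul, hg, smul_smul, ha, one_smul]

namespace QJ

variable {J : (ι → F) →ₗ[F] (ι → F)} {ν : F}

lemma nu_ne (E : QJ f J ν) : ν ≠ 0 := fun h => E.nsq 0 (by rw [mul_zero, h])

lemma jj (E : QJ f J ν) (x y : ι → F) : f (J x) (J y) = -(ν * f x y) := by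
  rw [E.skew, E.sq, smul_right' E.symp]

lemma jsymm (E : QJ f J ν) (x y : ι → F) : f (J x) y = f (J y) x := by
  rw [E.skew x y, E.symp.skew x (J y), neg_neg]

lemma xjx (E : QJ f J ν) (x : ι → F) : f x (J x) = -f (J x) x := by rw [E.skew, neg_neg]

lemma indep (E : QJ f J ν) {x : ι → F} (hx : x ≠ 0) {a b : F} (h : a • x + b • J x = 0) : a = 0 ∧ b = 0 := by
  have h' := congrArg J h
  rw [map_add, map_smul, map_smul, E.sq, map_zero] at h'
  have e : (a * a - b * b * ν) • x = 0 := by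
    have : a • (a • x + b • J x) - b • (a • J x + b • ν • x) = 0 := by rw [h, h']; simp
    rw [← this]
    module
  have e' := (smul_eq_zero.mp e).resolve_right hx
  by_cases hb : b = 0
  · rw [hb, zero_smul, add_zero] at h
    exact ⟨(smul_eq_zero.mp h).resolve_right hx, hb⟩
  exact absurd (show a / b * (a / b) = ν by field_simp; linear_combination e') (E.nsq _)

lemma exists_fr (E : QJ f J ν) {v : ι → F} (hv : v ≠ 0) (hvv : f (J v) v = 0) : ∃ w, Fr f J v w := by
  have hf := E.symp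
  have hns : v ∉ Submodule.span F {J v} := fun hm => by
    obtain ⟨c, hc⟩ := Submodule.mem_span_singleton.mp hm
    exact one_ne_zero (E.indep hv (a := 1) (b := -c) (by rw [one_smul, neg_smul, hc, add_neg_cancel])).1
  obtain ⟨z, hz, hzv⟩ := exists_perp_ne hf hns
  have hzJ := hz _ (Submodule.mem_span_singleton_self (J v))
  obtain ⟨y, hy⟩ : ∃ y, y = (f v z)⁻¹ • z := ⟨_, rfl⟩
  have hvz : f v z ≠ 0 := by rw [hf.skew]; exact neg_ne_zero.mpr hzv
  have h1 : f v y = 1 := by rw [hy, smul_right' hf, inv_mul_cancel₀ hvz]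
  have hJz : f (J v) z = 0 := by rw [hf.skew, hzJ, neg_zero]
  have h2 : f (J v) y = 0 := by rw [hy, smul_right' hf, hJz, mul_zero]
  obtain ⟨c, hc⟩ : ∃ c, c = -f (J y) y / (2 * ν) := ⟨_, rfl⟩
  have hvJ : f v (J v) = 0 := by rw [E.xjx, hvv, neg_zero]
  refine ⟨y + c • J v, hvv, ?_, ?_, ?_⟩
  · rw [map_add, map_smul, E.sq]
    simp only [add_left' hf, add_right' hf, smul_left' hf, smul_right' hf, E.jj, hvJ, h1, hf.skew y v]
    rw [hc]
    field_simp [E.two, E.nu_ne]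
    ring
  · rw [add_right' hf, smul_right' hf, hvJ, mul_zero, add_zero, h1]
  · rw [add_right' hf, smul_right' hf, hf.alternating, mul_zero, add_zero, h2]

end QJ

namespace Fr

variable {J : (ι → F) →ₗ[F] (ι → F)} {ν : F} {v w : ι → F}

lemma v_ne (B : Fr f J v w) (E : QJ f J ν) : v ≠ 0 := fun h => by
  have := B.vw
  rw [h, zero_left' E.symp] at this
  exact zero_ne_one this

/-- All the products inside a frame. -/
lemma table (B : Fr f J v w) (E : QJ f J ν) :
    f v (J v) = 0 ∧ f w (J w) = 0 ∧ f w v = -1 ∧ f v (J w) = 0 ∧ f w (J v) = 0 ∧ f (J w) v = 0 ∧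
      f (J v) (J w) = -ν ∧ f (J w) (J v) = ν := by
  have hf := E.symp
  refine ⟨by rw [E.xjx, B.vv, neg_zero], by rw [E.xjx, B.ww, neg_zero], by rw [hf.skew, B.vw], ?_, ?_, ?_, ?_, ?_⟩
  · rw [← neg_neg (f v (J w)), ← E.skew, B.jvw, neg_zero]
  · rw [hf.skew, B.jvw, neg_zero]
  · rw [E.jsymm, B.jvw]
  · rw [E.jj, B.vw, mul_one]
  · rw [E.jj, hf.skew, B.vw]; ring

lemma symm (B : Fr f J v w) (E : QJ f J ν) : Fr f J w (-v) := by
  have hf := E.symp
  obtain ⟨t1, t2, t3, t4, t5, t6, t7, t8⟩ := B.table E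
  refine ⟨B.ww, ?_, ?_, ?_⟩
  · rw [map_neg, ← neg_one_smul F (J v), ← neg_one_smul F v, smul_left' hf, smul_right' hf, B.vv]; ring
  · rw [← neg_one_smul F v, smul_right' hf, t3]; ring
  · rw [← neg_one_smul F v, smul_right' hf, t6]; ring

lemma expand (B : Fr f J v w) (E : QJ f J ν) (x : ι → F) :
    x = f x w • v + (-(f x (J w) / ν)) • J v + (-f x v) • w + (f x (J v) / ν) • J w := by
  have hf := E.symp
  obtain ⟨t1, t2, t3, t4, t5, t6, t7, t8⟩ := B.table E
  let Φ : (Fin 4 → F) →ₗ[F] (ι → F) := Fintype.linearCombination F ![v, J v, w, J w]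
  have hΦ : ∀ c, Φ c = c 0 • v + c 1 • J v + c 2 • w + c 3 • J w := fun c => by
    simp [Φ, Fintype.linearCombination_apply, Fin.sum_univ_four]
  have hc : ∀ c, f (Φ c) w = c 0 ∧ f (Φ c) (J w) = -(ν * c 1) ∧ f (Φ c) v = -(c 2) ∧ f (Φ c) (J v) = ν * c 3 := fun c => by
    simp only [hΦ, add_left' hf, smul_left' hf, hf.alternating, B.vv, B.ww, B.vw, B.jvw, t1, t2, t3, t4, t5, t6, t7, t8]
    refine ⟨?_, ?_, ?_, ?_⟩ <;> ring
  have hinj : Function.Injective Φ := by
    rw [injective_iff_map_eq_zero]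
    intro c h0
    obtain ⟨a1, a2, a3, a4⟩ := hc c
    rw [h0, zero_left' hf] at a1 a2 a3 a4
    funext i
    fin_cases i
    · exact a1.symm
    · simpa [E.nu_ne] using a2.symm
    · simpa using a3.symm
    · simpa [E.nu_ne] using a4.symm
  have hsurj : Function.Surjective Φ :=
    (LinearMap.injective_iff_surjective_of_finrank_eq_finrank
      (by rw [Module.finrank_fin_fun, Module.finrank_fintype_fun_eq_card, E.card])).mp hinj
  obtain ⟨c, rfl⟩ := hsurj x
  obtain ⟨a1, a2, a3, a4⟩ := hc c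
  rw [a1, a2, a3, a4, hΦ]
  have := E.nu_ne
  match_scalars <;> field_simp

/-- The symplectic map with prescribed images of a frame. -/
lemma exists_map (B : Fr f J v w) (E : QJ f J ν) {P R : ι → F} (B' : Fr f J P R) {ε : F} (hε : ε * ε = 1) :
    ∃ h : GL ι F, Iso f h ∧ (h : Matrix ι ι F) *ᵥ v = P ∧ (h : Matrix ι ι F) *ᵥ w = R ∧
      ∀ x, (h : Matrix ι ι F) *ᵥ J x = ε • J ((h : Matrix ι ι F) *ᵥ x) := by
  have hf := E.symp
  have hν := E.nu_ne
  obtain ⟨t1, t2, t3, t4, t5, t6, t7, t8⟩ := B.table E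
  obtain ⟨s1, s2, s3, s4, s5, s6, s7, s8⟩ := B'.table E
  let σ : (ι → F) →ₗ[F] (ι → F) :=
    ((toBilin hf.bilinear).flip w).smulRight P + (-((ε / ν) • (toBilin hf.bilinear).flip (J w))).smulRight (J P) +
      (-((toBilin hf.bilinear).flip v)).smulRight R + ((ε / ν) • (toBilin hf.bilinear).flip (J v)).smulRight (J R)
  have hσ : ∀ x, σ x = f x w • P + (-(ε / ν * f x (J w))) • J P + (-f x v) • R + (ε / ν * f x (J v)) • J R :=
    fun x => rfl
  have hiso : ∀ x y, f (σ x) (σ y) = f x y := fun x y => by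
    conv_rhs => rw [B.expand E x, B.expand E y]
    simp only [hσ, add_left' hf, smul_left' hf, add_right' hf, smul_right' hf, hf.alternating, B.vv, B.ww, B.vw,
      B.jvw, t1, t2, t3, t4, t5, t6, t7, t8, B'.vv, B'.ww, B'.vw, B'.jvw, s1, s2, s3, s4, s5, s6, s7, s8]
    field_simp
    linear_combination (ν * (f x (J w) * f y (J v) - f x (J v) * f y (J w))) * hε
  refine ⟨glOfInjective σ (injective_of_isometric hf hiso), fun u v => by simpa using hiso u v, ?_, ?_, fun x => ?_⟩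
  · rw [glOfInjective_mulVec, hσ, B.vw, t4, hf.alternating, t1]; simp
  · rw [glOfInjective_mulVec, hσ, hf.alternating, t2, t3, t5]; simp
  · have e1 : ∀ y, f (J x) y = -f x (J y) := fun y => E.skew x y
    rw [glOfInjective_mulVec, glOfInjective_mulVec, hσ, hσ, e1, e1, e1, e1, E.sq, E.sq, smul_right' hf, smul_right' hf]
    simp only [map_add, map_smul, E.sq, smul_add, smul_smul]
    match_scalars <;> field_simp <;> first | ring1 | linear_combination f x (J w) * hε | linear_combination (-f x (J v)) * hε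

end Fr

/-- The element of the unipotent radical of the stabiliser of a line over the extension. -/
noncomputable def tri (f : (ι → F) → (ι → F) → F) (J : (ι → F) →ₗ[F] (ι → F)) (v : ι → F) (p q r : F) : GL ι F :=
  sT f v p * sX f v (J v) q * sT f (J v) r

namespace QJ

variable {J : (ι → F) →ₗ[F] (ι → F)} {ν : F} {v w : ι → F}

lemma tri_mulVec (E : QJ f J ν) (hv : f (J v) v = 0) (p q r : F) (x : ι → F) :
    (tri f J v p q r : Matrix ι ι F) *ᵥ x =
      x + (p * f x v + q * f x (J v)) • v + (q * f x v + r * f x (J v)) • J v := by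
  have hf := E.symp
  have h : f v (J v) = 0 := by rw [E.xjx, hv, neg_zero]
  rw [tri, mul_mulVec, mul_mulVec, sT_mulVec hf, sX_mulVec hf h, sT_mulVec hf]
  simp only [add_left' hf, smul_left' hf, hf.alternating, h, hv]
  module

lemma tri_mul (E : QJ f J ν) (hv : f (J v) v = 0) (p q r p' q' r' : F) :
    tri f J v p q r * tri f J v p' q' r' = tri f J v (p + p') (q + q') (r + r') :=
  gl_ext fun x => by
    have hf := E.symp
    have h : f v (J v) = 0 := by rw [E.xjx, hv, neg_zero]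
    simp only [mul_mulVec, E.tri_mulVec hv, add_left' hf, smul_left' hf, hf.alternating, h, hv]
    module

lemma tri_inv (E : QJ f J ν) (hv : f (J v) v = 0) (p q r : F) :
    (tri f J v p q r)⁻¹ = tri f J v (-p) (-q) (-r) :=
  inv_eq_of_mul_eq_one_right (by
    rw [E.tri_mul hv]
    exact gl_ext fun x => by rw [E.tri_mulVec hv]; simp)

lemma iso_tri (E : QJ f J ν) (v : ι → F) (p q r : F) : Iso f (tri f J v p q r) :=
  ((iso_sT E.symp _ _).mul (iso_sX E.symp _ _ _)).mul (iso_sT E.symp _ _)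

/-- Conjugation into the same line. -/
lemma conj_tri (E : QJ f J ν) (hv : f (J v) v = 0) {h : GL ι F} (hi : Iso f h) {u : ι → F} (hu : f (J u) u = 0)
    {a b c d : F} (ha : (h : Matrix ι ι F) *ᵥ u = a • v + b • J v) (hc : (h : Matrix ι ι F) *ᵥ J u = c • v + d • J v)
    (p q r : F) : h * tri f J u p q r * h⁻¹ =
      tri f J v (p * a ^ 2 + 2 * (q * a * c) + r * c ^ 2) (p * a * b + q * (a * d + b * c) + r * c * d)
        (p * b ^ 2 + 2 * (q * b * d) + r * d ^ 2) := by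
  have hf := E.symp
  refine gl_ext fun x => ?_
  obtain ⟨y, rfl⟩ : ∃ y, (h : Matrix ι ι F) *ᵥ y = x := ⟨_, mulVec_inv_cancel h x⟩
  rw [mul_mulVec, mul_mulVec, inv_mulVec_cancel, E.tri_mulVec hu, E.tri_mulVec hv, mulVec_add, mulVec_add,
    mulVec_smul, mulVec_smul, ha, hc, ← hi y u, ← hi y (J u), ha, hc]
  simp only [add_right' hf, smul_right' hf]
  module

/-- Elements commuting with the extension. -/
lemma nj_line (E : QJ f J ν) (hv : f (J v) v = 0) (c : F) : NJ J (tri f J v (c * ν) 0 (-c)) := by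
  refine ⟨1, one_mul 1, fun x => ?_⟩
  rw [one_smul, E.tri_mulVec hv, E.tri_mulVec hv, E.skew, E.skew, E.sq, smul_right' E.symp, map_add, map_add,
    map_smul, map_smul, E.sq]
  module

variable {M : Subgroup (GL ι F)} (hM : ∀ h : GL ι F, Iso f h → NJ J h → h ∈ M)

include hM

lemma exists_torus (E : QJ f J ν) (B : Fr f J v w) {a b : F} (hab : a ≠ 0 ∨ b ≠ 0) {ε : F} (hε : ε * ε = 1) :
    ∃ h ∈ M, Iso f h ∧ NJ J h ∧ (h : Matrix ι ι F) *ᵥ v = a • v + b • J v ∧
      (h : Matrix ι ι F) *ᵥ J v = (ε * (b * ν)) • v + (ε * a) • J v := by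
  have hf := E.symp
  have hP0 : a • v + b • J v ≠ 0 := fun h => by
    obtain ⟨ha, hb⟩ := E.indep (B.v_ne E) h
    exact hab.elim (· ha) (· hb)
  obtain ⟨t1, -⟩ := B.table E
  obtain ⟨R, B'⟩ := E.exists_fr hP0 (by
    simp only [map_add, map_smul, E.sq, add_left' hf, add_right' hf, smul_left' hf, smul_right' hf, hf.alternating,
      B.vv, t1]
    ring)
  obtain ⟨h, hi, hv, -, hJ⟩ := B.exists_map E B' hε
  refine ⟨h, hM h hi ⟨ε, hε, hJ⟩, hi, ⟨ε, hε, hJ⟩, hv, ?_⟩
  rw [hJ, hv, map_add, map_smul, map_smul, E.sq]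
  module

/-- An element of the radical off the unitary root group gives a group of transvections. -/
lemma full_of_tri (E : QJ f J ν) (B : Fr f J v w) {p q r : F} (hmem : tri f J v p q r ∈ M)
    (hne : ¬ (q = 0 ∧ p + ν * r = 0)) : Full f M v := by
  have hv := B.vv
  have hline : ∀ c, tri f J v (c * ν) 0 (-c) ∈ M := fun c => hM _ (E.iso_tri _ _ _ _) (E.nj_line hv c)
  have step : ∀ p q, tri f J v p q 0 ∈ M → ∀ t, tri f J v (8 * ν * q * t) (2 * p * t) 0 ∈ M := by
    intro p q hm t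
    obtain ⟨h₁, hh₁, hi₁, -, e₁, e₁'⟩ := E.exists_torus hM B (a := 1) (b := t) (Or.inl one_ne_zero) (one_mul 1)
    obtain ⟨h₂, hh₂, hi₂, -, e₂, e₂'⟩ := E.exists_torus hM B (a := 1) (b := -t) (Or.inl one_ne_zero) (one_mul 1)
    have m₁ := M.mul_mem (M.mul_mem hh₁ hm) (M.inv_mem hh₁)
    have m₂ := M.mul_mem (M.mul_mem hh₂ hm) (M.inv_mem hh₂)
    rw [E.conj_tri hv hi₁ hv e₁ e₁'] at m₁
    rw [E.conj_tri hv hi₂ hv e₂ e₂'] at m₂
    have m₃ := M.mul_mem (M.mul_mem m₁ (M.inv_mem m₂)) (hline (4 * q * t))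
    rw [E.tri_inv hv, E.tri_mul hv, E.tri_mul hv] at m₃
    convert m₃ using 2 <;> ring
  have hpq : tri f J v (p + ν * r) q 0 ∈ M := by
    have := M.mul_mem hmem (hline r)
    rw [E.tri_mul hv] at this
    convert this using 2 <;> ring
  obtain ⟨P, hP⟩ : ∃ P, P = p + ν * r := ⟨_, rfl⟩
  rw [← hP] at hpq hne
  have h2 := E.two
  have hν := E.nu_ne
  have hmul : ∀ t, tri f J v (P * t) (q * t) 0 ∈ M := by
    intro t
    have h8 := step P q hpq 1
    have h := step _ _ h8 (t / (16 * ν))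
    have h16 : (16 : F) ≠ 0 := by rw [show (16 : F) = 2 ^ 4 by norm_num]; exact pow_ne_zero _ h2
    convert h using 2 <;> field_simp <;> ring
  have hD : P ^ 2 - 4 * ν * q ^ 2 ≠ 0 := fun h => by
    by_cases hq : q = 0
    · rw [hq] at h
      exact hne ⟨hq, pow_eq_zero_iff two_ne_zero |>.mp (by linear_combination h)⟩
    · exact E.nsq (P / (2 * q)) (by field_simp; linear_combination h)
  intro c
  have h := M.mul_mem (hmul (P * c / (P ^ 2 - 4 * ν * q ^ 2)))
    (step P q hpq (-(q * c) / (2 * (P ^ 2 - 4 * ν * q ^ 2))))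
  rw [E.tri_mul hv] at h
  convert h using 1
  rw [show (0 : F) + 0 = 0 from add_zero 0]
  refine gl_ext fun x => ?_
  rw [sT_mulVec E.symp, E.tri_mulVec hv]
  match_scalars <;> field_simp <;> ring

/-- An element fixing an isotropic line over the extension, not semilinear. -/
lemma full_of_fix (E : QJ f J ν) (B : Fr f J v w) {k : GL ι F} (hk : k ∈ M) (hki : Iso f k) (hns : ¬ NJ J k)
    {a b c d : F} (ha : (k : Matrix ι ι F) *ᵥ v = a • v + b • J v)
    (hc : (k : Matrix ι ι F) *ᵥ J v = c • v + d • J v) : Full f M v := by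
  have hf := E.symp
  have hv := B.vv
  have hν := E.nu_ne
  have hZ : tri f J v (1 * ν) 0 (-1) ∈ M := hM _ (E.iso_tri _ _ _ _) (E.nj_line hv 1)
  have m := M.mul_mem (M.mul_mem hk hZ) (M.inv_mem hk)
  rw [E.conj_tri hv hki hv ha hc] at m
  by_contra hfull
  obtain ⟨h1, h2⟩ := not_not.mp fun h => hfull (E.full_of_tri hM B m h)
  have hab : a ≠ 0 ∨ b ≠ 0 := by
    by_contra h
    simp only [not_or, not_not] at h
    refine mulVec_ne_zero k (B.v_ne E) ?_
    rw [ha, h.1, h.2, zero_smul, zero_smul, add_zero]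
  obtain ⟨ε, hε, hcε, hdε⟩ : ∃ ε : F, ε * ε = 1 ∧ c = ε * (b * ν) ∧ d = ε * a := by
    have e1 : ν * (a * b) = c * d := by linear_combination h1
    have e2 : c ^ 2 + ν * d ^ 2 = ν * a ^ 2 + ν ^ 2 * b ^ 2 := by linear_combination -h2
    have e3 : (d ^ 2 - a ^ 2) * (d ^ 2 - ν * b ^ 2) = 0 :=
      mul_left_cancel₀ hν (by rw [mul_zero]; linear_combination d ^ 2 * e2 + (c * d + ν * a * b) * e1)
    have hda : d ^ 2 = a ^ 2 := by
      rcases mul_eq_zero.mp e3 with e | e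
      · exact sub_eq_zero.mp e
      · by_cases hb : b = 0
        · have hd : d = 0 := pow_eq_zero_iff two_ne_zero |>.mp (by rw [hb] at e; linear_combination e)
          have hc2 : c ^ 2 = ν * a ^ 2 := by rw [hd, hb] at e2; linear_combination e2
          by_cases ha' : a = 0
          · rw [hd, ha']
          · exact absurd (show c / a * (c / a) = ν by field_simp; linear_combination hc2) (E.nsq _)
        · exact absurd (show d / b * (d / b) = ν by field_simp; linear_combination e) (E.nsq _)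
    by_cases ha' : a = 0
    · have hd : d = 0 := pow_eq_zero_iff two_ne_zero |>.mp (by rw [hda, ha']; ring)
      have hb := hab.resolve_left (not_not.mpr ha')
      have hc2 : c ^ 2 = ν ^ 2 * b ^ 2 := by rw [hd, ha'] at e2; linear_combination e2
      exact ⟨c / (b * ν), by field_simp; linear_combination hc2, by field_simp, by rw [hd, ha', mul_zero]⟩
    · refine ⟨d / a, by field_simp; linear_combination hda, ?_, by field_simp⟩
      have : (c - d / a * (b * ν)) * d = 0 := by field_simp; linear_combination (-a) * e1 - ν * b * hda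
      refine sub_eq_zero.mp ((mul_eq_zero.mp this).resolve_right fun hd => ha' ?_)
      exact pow_eq_zero_iff two_ne_zero |>.mp (by rw [← hda, hd]; ring)
  obtain ⟨h, hh, hi, hnj, ev, eJ⟩ := E.exists_torus hM B hab hε
  rw [← hcε, ← hdε, ← hc] at eJ
  rw [← ha] at ev
  obtain ⟨u, hu⟩ : ∃ u, u = h⁻¹ * k := ⟨_, rfl⟩
  have huM : u ∈ M := hu ▸ M.mul_mem (M.inv_mem hh) hk
  have hui : Iso f u := hu ▸ hi.inv.mul hki
  have huv : (u : Matrix ι ι F) *ᵥ v = v := by rw [hu, mul_mulVec, ← ev, inv_mulVec_cancel]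
  have huJ : (u : Matrix ι ι F) *ᵥ J v = J v := by rw [hu, mul_mulVec, ← eJ, inv_mulVec_cancel]
  have huns : ¬ NJ J u := fun h0 => hns (by
    have := hnj.mul h0
    rwa [hu, mul_inv_cancel_left] at this)
  obtain ⟨t1, t2, t3, t4, t5, t6, t7, t8⟩ := B.table E
  have k1 : ∀ x, f ((u : Matrix ι ι F) *ᵥ x) v = f x v := fun x => by conv_lhs => rw [← huv, hui]
  have k2 : ∀ x, f ((u : Matrix ι ι F) *ᵥ x) (J v) = f x (J v) := fun x => by conv_lhs => rw [← huJ, hui]
  have ew := B.expand E ((u : Matrix ι ι F) *ᵥ w)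
  have eJw := B.expand E ((u : Matrix ι ι F) *ᵥ J w)
  rw [k1, k2, t3, t5] at ew
  rw [k1, k2, t6, t8] at eJw
  obtain ⟨α, hα⟩ : ∃ α, α = f ((u : Matrix ι ι F) *ᵥ w) w := ⟨_, rfl⟩
  obtain ⟨β, hβ⟩ : ∃ β, β = f ((u : Matrix ι ι F) *ᵥ w) (J w) := ⟨_, rfl⟩
  obtain ⟨α', hα'⟩ : ∃ β, β = f ((u : Matrix ι ι F) *ᵥ J w) w := ⟨_, rfl⟩
  obtain ⟨β', hβ'⟩ : ∃ β, β = f ((u : Matrix ι ι F) *ᵥ J w) (J w) := ⟨_, rfl⟩
  rw [← hα, ← hβ] at ew
  rw [← hα', ← hβ'] at eJw
  simp only [neg_neg, neg_zero, zero_div, zero_smul, one_smul, add_zero, div_self hν] at ew eJw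
  have hrel : α' = β := by
    have := hui w (J w)
    rw [ew, eJw, t2] at this
    simp only [add_left' hf, add_right' hf, smul_left' hf, smul_right' hf, hf.alternating, hv, B.ww, B.vw, B.jvw,
      t1, t2, t3, t4, t5, t6, t7, t8] at this
    field_simp at this
    exact mul_left_cancel₀ (pow_ne_zero 2 hν) (by linear_combination -this)
  have hu' : u = tri f J v (-α) (β / ν) (-β' / ν ^ 2) := by
    refine gl_ext fun x => ?_
    conv_lhs => rw [B.expand E x]
    rw [mulVec_add, mulVec_add, mulVec_add, mulVec_smul, mulVec_smul, mulVec_smul, mulVec_smul, huv, huJ, ew, eJw,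
      E.tri_mulVec hv, hrel]
    conv_rhs => rw [B.expand E x]
    simp only [add_left' hf, smul_left' hf, hf.alternating, hv, B.vw, B.jvw, t1, t3, t4, t5, t6, t7, t8]
    match_scalars <;> field_simp <;> ring
  rw [hu'] at huM
  obtain ⟨h3, h4⟩ := not_not.mp fun h => hfull (E.full_of_tri hM B huM h)
  refine huns ?_
  rw [hu', h3]
  convert E.nj_line hv (β' / ν ^ 2) using 2
  · linear_combination h4
  · rw [neg_div]

/-- An element moving an isotropic line over the extension to such a line. -/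
lemma full_of_move (E : QJ f J ν) (B : Fr f J v w) {k : GL ι F} (hk : k ∈ M) (hki : Iso f k) (hns : ¬ NJ J k)
    {u : ι → F} (hu0 : u ≠ 0) (hu : f (J u) u = 0) {a b c d : F}
    (ha : (k : Matrix ι ι F) *ᵥ u = a • v + b • J v) (hc : (k : Matrix ι ι F) *ᵥ J u = c • v + d • J v) :
    Full f M v := by
  obtain ⟨z, B'⟩ := E.exists_fr hu0 hu
  obtain ⟨h, hi, hv, -, hJ⟩ := B.exists_map E B' (one_mul 1)
  have hnj : NJ J h := ⟨1, one_mul 1, hJ⟩
  refine E.full_of_fix hM B (M.mul_mem hk (hM h hi hnj)) (hki.mul hi) (fun h0 => hns ?_) (a := a) (b := b) (c := c)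
    (d := d) (by rw [mul_mulVec, hv, ha]) (by rw [mul_mulVec, hJ, hv, one_smul, hc])
  have := h0.mul hnj.inv
  rwa [mul_inv_cancel_right] at this

/-- Either a transvection group, or the conjugated structure commutes with the given one. -/
lemma full_or_commute (E : QJ f J ν) {t₀ : F} (ht₀ : t₀ ≠ 0) (ht₀1 : t₀ * t₀ ≠ 1) {v₀ : ι → F} (hv₀ : v₀ ≠ 0)
    (hv₀v : f (J v₀) v₀ = 0) {g : GL ι F} (hg : g ∈ M) (hgi : Iso f g) (hns : ¬ NJ J g) :
    (∃ v, v ≠ 0 ∧ f (J v) v = 0 ∧ Full f M v) ∨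
      ∀ x, J (((g⁻¹ : GL ι F) : Matrix ι ι F) *ᵥ J ((g : Matrix ι ι F) *ᵥ x)) =
        ((g⁻¹ : GL ι F) : Matrix ι ι F) *ᵥ J ((g : Matrix ι ι F) *ᵥ J x) := by
  refine or_iff_not_imp_left.mpr fun hno => ?_
  have hf := E.symp
  have h2 := E.two
  have hν := E.nu_ne
  obtain ⟨J₂, hJ₂⟩ : ∃ J₂ : (ι → F) →ₗ[F] (ι → F),
      ∀ x, J₂ x = ((g⁻¹ : GL ι F) : Matrix ι ι F) *ᵥ J ((g : Matrix ι ι F) *ᵥ x) :=
    ⟨Matrix.toLin' ((g⁻¹ : GL ι F) : Matrix ι ι F) ∘ₗ J ∘ₗ Matrix.toLin' (g : Matrix ι ι F), fun x => rfl⟩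
  have hgJ : ∀ x, (g : Matrix ι ι F) *ᵥ J₂ x = J ((g : Matrix ι ι F) *ᵥ x) := fun x => by
    rw [hJ₂, mulVec_inv_cancel]
  have E₂ : QJ f J₂ ν := ⟨hf, fun x => mulVec_injective g (by simp only [hgJ, E.sq, mulVec_smul]),
    fun x y => by rw [← hgi (J₂ x) y, hgJ, E.skew, ← hgJ, hgi], E.nsq, h2, E.card⟩
  -- the reflection argument
  have hrefl : ∀ z, f (J₂ z) z = 0 → f (J z) z ≠ 0 → f (J z) (J₂ z) = 0 := by
    intro z hz hz0
    have hzne : z ≠ 0 := fun h => hz0 (by rw [h, zero_right' hf])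
    obtain ⟨φ, hφ⟩ : ∃ φ, φ = f (J z) z := ⟨_, rfl⟩
    have hzz : f z (J z) = -φ := by rw [E.xjx, hφ]
    let σ : (ι → F) →ₗ[F] (ι → F) := LinearMap.id -
      (((2 / φ) • ((toBilin hf.bilinear).flip z ∘ₗ J)).smulRight z) - (((2 / φ) • (toBilin hf.bilinear).flip z).smulRight (J z))
    have hσ : ∀ x, σ x = x - (2 / φ * f (J x) z) • z - (2 / φ * f x z) • J z := fun x => rfl
    have hφ0 : φ ≠ 0 := hφ ▸ hz0
    have hiso : ∀ x y, f (σ x) (σ y) = f x y := fun x y => by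
      simp only [hσ, sub_left' hf, sub_right' hf, smul_left' hf, smul_right' hf, hf.alternating, hzz, ← hφ,
        hf.skew z y, E.skew z y, E.skew y z, hf.skew z (J y), E.skew x z]
      field_simp
      ring
    obtain ⟨R, hR⟩ : ∃ R, R = glOfInjective σ (injective_of_isometric hf hiso) := ⟨_, rfl⟩
    have hRv : ∀ x, (R : Matrix ι ι F) *ᵥ x = σ x := fun x => by rw [hR, glOfInjective_mulVec]
    have hRi : Iso f R := fun u v => by rw [hRv, hRv, hiso]
    have hRM : R ∈ M := hM R hRi ⟨1, one_mul 1, fun x => by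
      rw [one_smul, hRv, hRv, hσ, hσ, map_sub, map_sub, map_smul, map_smul, E.sq, E.sq, smul_left' hf]
      module⟩
    have hRz : (R : Matrix ι ι F) *ᵥ z = -z := by
      rw [hRv, hσ, hf.alternating, mul_zero, zero_smul, sub_zero, ← hφ, div_mul_cancel₀ _ hφ0]
      module
    have hRy : (R : Matrix ι ι F) *ᵥ J₂ z = J₂ z - (2 / φ * f (J (J₂ z)) z) • z := by
      rw [hRv, hσ, hz, mul_zero, zero_smul, sub_zero]
    obtain ⟨c, hc⟩ : ∃ c, c = 2 / φ * f (J (J₂ z)) z := ⟨_, rfl⟩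
    rw [← hc] at hRy
    have hu : f (J ((g : Matrix ι ι F) *ᵥ z)) ((g : Matrix ι ι F) *ᵥ z) = 0 := by rw [← hgJ, hgi, hz]
    obtain ⟨w, B⟩ := E.exists_fr (mulVec_ne_zero g hzne) hu
    by_cases hk : NJ J (g * R * g⁻¹)
    swap
    · refine absurd ?_ hno
      refine ⟨_, mulVec_ne_zero g hzne, hu, E.full_of_fix hM B (M.mul_mem (M.mul_mem hg hRM) (M.inv_mem hg))
        ((hgi.mul hRi).mul hgi.inv) hk (a := -1) (b := 0) (c := -c) (d := 1) ?_ ?_⟩
      · rw [mul_mulVec, mul_mulVec, inv_mulVec_cancel, hRz, mulVec_neg]; module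
      · rw [← hgJ, mul_mulVec, mul_mulVec, inv_mulVec_cancel, hRy, mulVec_sub, mulVec_smul]; module
    obtain ⟨ε, hε, hk⟩ := hk
    have h := hk ((g : Matrix ι ι F) *ᵥ z)
    rw [← hgJ, mul_mulVec, mul_mulVec, inv_mulVec_cancel, hRy, mul_mulVec, mul_mulVec, inv_mulVec_cancel, hRz,
      mulVec_sub, mulVec_smul, mulVec_neg, map_neg, hgJ, smul_neg] at h
    have h' := E.indep (mulVec_ne_zero g hzne) (a := -c) (b := 1 + ε) (by
      rw [neg_smul, add_smul, one_smul, ← sub_eq_zero.mpr h]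
      module)
    have hc0 : c = 0 := neg_eq_zero.mp h'.1
    rw [hc] at hc0
    rw [E.jsymm (J₂ z) z] at hc0
    exact (mul_eq_zero.mp hc0).resolve_left (div_ne_zero h2 hφ0)
  have hψ : ∀ z, f (J₂ z) z = 0 → f (J z) (J₂ z) = 0 := by
    intro z hz
    by_cases hφ : f (J z) z = 0
    swap
    · exact hrefl z hz hφ
    by_contra hB
    obtain ⟨P, hP⟩ : ∃ P, P = f (J (J₂ z)) (J₂ z) := ⟨_, rfl⟩
    obtain ⟨B, hBdef⟩ : ∃ B, B = f (J z) (J₂ z) := ⟨_, rfl⟩
    rw [← hBdef] at hB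
    have hJyz : f (J (J₂ z)) z = B := by rw [E.jsymm, hBdef]
    have hzy : f z (J₂ z) = 0 := by rw [E₂.xjx, hz, neg_zero]
    have key : ∀ t : F, t ≠ 0 → 2 * B + t * P ≠ 0 → t * P + B * (1 + ν * t ^ 2) = 0 := by
      intro t ht hne
      have h1 := hrefl (z + t • J₂ z) (by
        rw [map_add, map_smul, E₂.sq]
        simp only [add_left' hf, add_right' hf, smul_left' hf, smul_right' hf, hf.alternating, hz, hzy]
        ring) (by
        rw [map_add, map_smul]
        simp only [add_left' hf, add_right' hf, smul_left' hf, smul_right' hf, hφ, ← hP, ← hBdef, hJyz]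
        intro h0
        exact mul_ne_zero ht hne (by linear_combination h0))
      rw [map_add, map_smul, map_add, map_smul, E₂.sq] at h1
      simp only [add_left' hf, add_right' hf, smul_left' hf, smul_right' hf, hφ, ← hP, ← hBdef, hJyz] at h1
      linear_combination h1
    by_cases hP0 : P = 0
    · have h1 := key 1 one_ne_zero (by rw [hP0, mul_zero, add_zero]; exact mul_ne_zero h2 hB)
      have h3 := key t₀ ht₀ (by rw [hP0, mul_zero, add_zero]; exact mul_ne_zero h2 hB)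
      rw [hP0] at h1 h3
      have : B * ν * (t₀ * t₀ - 1) = 0 := by linear_combination h3 - h1
      exact mul_ne_zero (mul_ne_zero hB hν) (sub_ne_zero.mpr ht₀1) this
    have key2 : ∀ t : F, t ≠ 0 → 2 * B + t * P ≠ 0 → 2 * B - t * P ≠ 0 → False := fun t ht h1 h3 => by
      have e1 := key t ht h1
      have e3 := key (-t) (neg_ne_zero.mpr ht) (by rwa [neg_mul, ← sub_eq_add_neg])
      exact mul_ne_zero (mul_ne_zero h2 ht) hP0 (by linear_combination e1 - e3)
    by_cases h1 : 2 * B + 1 * P ≠ 0 ∧ 2 * B - 1 * P ≠ 0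
    · exact key2 1 one_ne_zero h1.1 h1.2
    have h1' : (2 * B) ^ 2 = P ^ 2 := by
      rcases not_and_or.mp h1 with h | h
      · linear_combination (2 * B - P) * (not_not.mp h)
      · linear_combination (2 * B + P) * (not_not.mp h)
    have hne : (2 * B) ^ 2 - t₀ ^ 2 * P ^ 2 ≠ 0 := fun h0 => by
      have : P ^ 2 * (1 - t₀ * t₀) = 0 := by linear_combination h0 - h1'
      exact mul_ne_zero (pow_ne_zero 2 hP0) (sub_ne_zero.mpr (Ne.symm ht₀1)) this
    exact key2 t₀ ht₀ (fun h0 => hne (by linear_combination (2 * B - t₀ * P) * h0))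
      (fun h0 => hne (by linear_combination (2 * B + t₀ * P) * h0))
  -- the commutator is a multiple of the conjugated structure
  obtain ⟨D, hD⟩ : ∃ D : (ι → F) →ₗ[F] (ι → F), ∀ x, D x = J (J₂ x) - J₂ (J x) :=
    ⟨J ∘ₗ J₂ - J₂ ∘ₗ J, fun x => rfl⟩
  have hDf : ∀ x y, f (D x) y = f (J y) (J₂ x) + f (J x) (J₂ y) := fun x y => by
    rw [hD, sub_left' hf, E.jsymm, E₂.skew]
    ring
  have hsym : ∀ x y, f (D x) y = f (D y) x := fun x y => by rw [hDf, hDf, add_comm]
  have hiso0 : ∀ z, f (J₂ z) z = 0 → f (D z) z = 0 := fun z hz => by rw [hDf, hψ z hz, add_zero]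
  obtain ⟨w₀, B₀⟩ := E.exists_fr hv₀ hv₀v
  obtain ⟨v, hv⟩ : ∃ v, v = ((g⁻¹ : GL ι F) : Matrix ι ι F) *ᵥ v₀ := ⟨_, rfl⟩
  obtain ⟨w, hw⟩ : ∃ w, w = ((g⁻¹ : GL ι F) : Matrix ι ι F) *ᵥ w₀ := ⟨_, rfl⟩
  have B₂ : Fr f J₂ v w := by
    have hgv : (g : Matrix ι ι F) *ᵥ v = v₀ := by rw [hv, mulVec_inv_cancel]
    have hgw : (g : Matrix ι ι F) *ᵥ w = w₀ := by rw [hw, mulVec_inv_cancel]
    constructor
    · rw [← hgi, hgJ, hgv, B₀.vv]
    · rw [← hgi, hgJ, hgw, B₀.ww]
    · rw [← hgi, hgv, hgw, B₀.vw]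
    · rw [← hgi, hgJ, hgv, hgw, B₀.jvw]
  obtain ⟨t1, t2, t3, t4, t5, t6, t7, t8⟩ := B₂.table E₂
  -- isotropic vectors in the frame
  have hlin : ∀ x y, f (D x) x = 0 → f (D y) y = 0 → f (J₂ (x + y)) (x + y) = 0 → f (D x) y = 0 := by
    intro x y hx hy hxy
    have h := hiso0 _ hxy
    rw [map_add, add_left' hf, add_right' hf, add_right' hf, hx, hy, ← hsym x y] at h
    have e : 2 * f (D x) y = 0 := by linear_combination h
    exact (mul_eq_zero.mp e).resolve_left h2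
  have dv := hiso0 v B₂.vv
  have dw := hiso0 w B₂.ww
  have dJv := hiso0 (J₂ v) (by rw [E₂.sq, smul_left' hf, t1, mul_zero])
  have dJw := hiso0 (J₂ w) (by rw [E₂.sq, smul_left' hf, t2, mul_zero])
  have evJ : f (D v) (J₂ v) = 0 := hlin _ _ dv dJv (by
    simp only [map_add, E₂.sq, add_left' hf, add_right' hf, smul_left' hf, B₂.vv, t1, hf.alternating]; ring)
  have ewJ : f (D w) (J₂ w) = 0 := hlin _ _ dw dJw (by
    simp only [map_add, E₂.sq, add_left' hf, add_right' hf, smul_left' hf, B₂.ww, t2, hf.alternating]; ring)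
  have evw : f (D v) w = 0 := hlin _ _ dv dw (by
    simp only [map_add, add_left' hf, add_right' hf, B₂.vv, B₂.ww, B₂.jvw, t6]; ring)
  have eJvJw : f (D (J₂ v)) (J₂ w) = 0 := hlin _ _ dJv dJw (by
    simp only [map_add, E₂.sq, add_left' hf, add_right' hf, smul_left' hf, t1, t2, t4, t5]; ring)
  have ecross : f (D v) (J₂ w) + f (D (J₂ v)) w = 0 := by
    have h := hlin (v + J₂ v) (w + J₂ w) (by
        rw [map_add, add_left' hf, add_right' hf, add_right' hf, dv, dJv, ← hsym v, evJ]; ring) (by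
        rw [map_add, add_left' hf, add_right' hf, add_right' hf, dw, dJw, ← hsym w, ewJ]; ring) (by
        simp only [map_add, E₂.sq, add_left' hf, add_right' hf, smul_left' hf, hf.alternating, B₂.vv, B₂.ww, B₂.jvw,
          B₂.vw, t1, t2, t3, t4, t5, t6, t7, t8]
        ring)
    rw [map_add, add_left' hf, add_right' hf, add_right' hf, evw, eJvJw] at h
    linear_combination h
  obtain ⟨b, hb⟩ : ∃ b, b = f (D v) (J₂ w) := ⟨_, rfl⟩
  have eJvw : f (D (J₂ v)) w = -b := by linear_combination ecross + hb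
  have hDc : ∀ x, D x = (-(b / ν)) • J₂ x := by
    have a1 := B₂.expand E₂ (D v)
    have a2 := B₂.expand E₂ (D (J₂ v))
    have a3 := B₂.expand E₂ (D w)
    have a4 := B₂.expand E₂ (D (J₂ w))
    rw [evw, evJ, dv, ← hb] at a1
    rw [eJvw, eJvJw, hsym (J₂ v) v, evJ, dJv] at a2
    rw [hsym w v, evw, dw, ewJ, hsym w (J₂ v), eJvw] at a3
    rw [hsym (J₂ w) w, ewJ, dJw, hsym (J₂ w) v, ← hb, hsym (J₂ w) (J₂ v), eJvJw] at a4
    intro x
    rw [B₂.expand E₂ x]
    simp only [map_add, map_smul]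
    rw [a1, a2, a3, a4]
    simp only [E₂.sq]
    match_scalars <;> field_simp <;> ring
  have hzero : b / ν = 0 := by
    have e1 : J₂ (D v) + D (J₂ v) = 0 := by
      rw [hD, hD, map_sub, E₂.sq, E₂.sq, map_smul]
      abel
    rw [hDc, hDc, map_smul, E₂.sq, smul_smul, ← add_smul, smul_eq_zero] at e1
    have e2 : (2 * ν) * (b / ν) = 0 := by linear_combination -(e1.resolve_right (B₂.v_ne E₂))
    exact (mul_eq_zero.mp e2).resolve_left (mul_ne_zero h2 hν)
  intro x
  have h := hDc x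
  rw [hzero, neg_zero, zero_smul, hD, sub_eq_zero] at h
  rw [← hJ₂, ← hJ₂]
  exact h

/-- An element outside the semilinear group gives a group of transvections. -/
theorem exists_full (E : QJ f J ν) {t₀ : F} (ht₀ : t₀ ≠ 0) (ht₀1 : t₀ * t₀ ≠ 1) (B : Fr f J v w) {g : GL ι F}
    (hg : g ∈ M) (hgi : Iso f g) (hns : ¬ NJ J g) : ∃ u, u ≠ 0 ∧ f (J u) u = 0 ∧ Full f M u := by
  have hf := E.symp
  have h2 := E.two
  have hν := E.nu_ne
  by_contra hno
  have hcom := (E.full_or_commute hM ht₀ ht₀1 (B.v_ne E) B.vv hg hgi hns).resolve_left hno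
  obtain ⟨J₂, hJ₂⟩ : ∃ J₂ : (ι → F) →ₗ[F] (ι → F),
      ∀ x, J₂ x = ((g⁻¹ : GL ι F) : Matrix ι ι F) *ᵥ J ((g : Matrix ι ι F) *ᵥ x) :=
    ⟨Matrix.toLin' ((g⁻¹ : GL ι F) : Matrix ι ι F) ∘ₗ J ∘ₗ Matrix.toLin' (g : Matrix ι ι F), fun x => rfl⟩
  simp only [← hJ₂] at hcom
  have hgJ : ∀ x, (g : Matrix ι ι F) *ᵥ J₂ x = J ((g : Matrix ι ι F) *ᵥ x) := fun x => by
    rw [hJ₂, mulVec_inv_cancel]
  have hsk : ∀ x y, f (J₂ x) y = -f x (J₂ y) := fun x y => by rw [← hgi (J₂ x) y, hgJ, E.skew, ← hgJ, hgi]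
  have hsq : ∀ x, J₂ (J₂ x) = ν • x := fun x => mulVec_injective g (by simp only [hgJ, E.sq, mulVec_smul])
  obtain ⟨T, hT⟩ : ∃ T : (ι → F) →ₗ[F] (ι → F), ∀ x, T x = ν⁻¹ • J (J₂ x) :=
    ⟨ν⁻¹ • (J ∘ₗ J₂), fun x => rfl⟩
  have hJT : ∀ x, J₂ x = J (T x) := fun x => by rw [hT, map_smul, E.sq, inv_smul_smul₀ hν]
  have hTJ : ∀ x, T (J x) = J (T x) := fun x => by rw [← hJT, hT, ← hcom, E.sq, inv_smul_smul₀ hν]
  have hTT : ∀ x, T (T x) = x := fun x => by
    have := hsq x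
    rw [hJT, hJT, hTJ, E.sq] at this
    exact smul_right_injective _ hν this
  have hTs : ∀ x y, f (T x) y = f x (T y) := fun x y => by
    rw [hT, hT, smul_left' hf, smul_right' hf, E.skew, hsk, ← hcom]
    ring
  have hTe : ∀ u z, Fr f J u z → ∀ ε : F, ε * ε = 1 → T u ≠ ε • u := by
    intro u z B' ε hε he
    obtain ⟨t1, t2, t3, t4, t5, t6, t7, t8⟩ := B'.table E
    have ez := B'.expand E (T z)
    have k1 : f (T z) u = -ε := by rw [hTs, he, smul_right' hf, t3]; ring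
    have k2 : f (T z) (J u) = 0 := by rw [hTs, hTJ, he, map_smul, smul_right' hf, t5, mul_zero]
    rw [k1, k2] at ez
    simp only [neg_neg, zero_div, zero_smul, add_zero] at ez
    obtain ⟨α, hα⟩ : ∃ α, α = f (T z) z := ⟨_, rfl⟩
    obtain ⟨β, hβ⟩ : ∃ β, β = -(f (T z) (J z) / ν) := ⟨_, rfl⟩
    rw [← hα, ← hβ] at ez
    have h := hTT z
    rw [ez, map_add, map_add, map_smul, map_smul, map_smul, hTJ, he, map_smul, ez] at h
    have h' : (2 * ε * α) • u + (2 * ε * β) • J u = 0 := by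
      have e : (α * ε + ε * α) • u + (β * ε + ε * β) • J u + (ε * ε - 1) • z = 0 := by
        rw [← sub_eq_zero.mpr h]; module
      rw [hε, sub_self, zero_smul, add_zero] at e
      rw [← e]; module
    have hε0 : ε ≠ 0 := fun h0 => by rw [h0, mul_zero] at hε; exact zero_ne_one hε
    obtain ⟨ha, hb⟩ := E.indep (B'.v_ne E) h'
    rw [(mul_eq_zero.mp ha).resolve_left (mul_ne_zero h2 hε0), (mul_eq_zero.mp hb).resolve_left (mul_ne_zero h2 hε0),
      zero_smul, zero_smul, zero_add, zero_add] at ez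
    refine hns ⟨ε, hε, fun x => ?_⟩
    have hall : T x = ε • x := by
      conv_lhs => rw [B'.expand E x]
      conv_rhs => rw [B'.expand E x]
      simp only [map_add, map_smul, hTJ, he, ez]
      module
    rw [← hgJ, hJT, hall, map_smul, mulVec_smul, smul_smul, hε, one_smul]
  obtain ⟨a, ha⟩ : ∃ a, a = (2 : F)⁻¹ • (v + T v) := ⟨_, rfl⟩
  obtain ⟨b, hb⟩ : ∃ b, b = (2 : F)⁻¹ • (v - T v) := ⟨_, rfl⟩
  have hva : v = a + b := by rw [ha, hb]; match_scalars <;> field_simp <;> ring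
  have hTa : T a = a := by rw [ha, map_smul, map_add, hTT, add_comm]
  have hTb : T b = -b := by rw [hb, map_smul, map_sub, hTT, ← smul_neg, neg_sub]
  have ha0 : a ≠ 0 := fun h => hTe v w B (-1) (by ring) (by rw [hva, h, zero_add, hTb, neg_one_smul])
  have hb0 : b ≠ 0 := fun h => hTe v w B 1 (one_mul 1) (by rw [hva, h, add_zero, hTa, one_smul])
  have hab : f a b = 0 := by
    have h := hTs a b
    rw [hTa, hTb, ← neg_one_smul F b, smul_right' hf] at h
    exact (mul_eq_zero.mp (show 2 * f a b = 0 by linear_combination h)).resolve_left h2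
  have hab' : f a (J b) = 0 := by
    have h := hTs a (J b)
    rw [hTa, hTJ, hTb, map_neg, ← neg_one_smul F (J b), smul_right' hf] at h
    exact (mul_eq_zero.mp (show 2 * f a (J b) = 0 by linear_combination h)).resolve_left h2
  obtain ⟨κ, hκ⟩ : ∃ κ, κ = f a (J v) := ⟨_, rfl⟩
  have hav : f a v = 0 := by rw [hva, add_right' hf, hf.alternating, hab, add_zero]
  have hbv : f b v = 0 := by
    rw [hva, add_right' hf, hf.alternating, hf.skew, hab, neg_zero, add_zero]
  have hκ0 : κ ≠ 0 := fun h0 => by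
    rw [hκ, hva, map_add, add_right' hf, hab', add_zero, E.xjx, neg_eq_zero] at h0
    obtain ⟨z, B'⟩ := E.exists_fr ha0 h0
    exact hTe a z B' 1 (one_mul 1) (by rw [hTa, one_smul])
  have hbJv : f b (J v) = -κ := by
    have h : f (a + b) (J v) = 0 := by rw [← hva, E.xjx, B.vv, neg_zero]
    rw [add_left' hf, ← hκ] at h
    linear_combination h
  obtain ⟨h, hh⟩ : ∃ h, h = tri f J v (1 * ν) 0 (-1) := ⟨_, rfl⟩
  have hhi : Iso f h := hh ▸ E.iso_tri _ _ _ _
  have hhM : h ∈ M := hM h hhi (hh ▸ E.nj_line B.vv 1)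
  obtain ⟨P, hP⟩ : ∃ P : (ι → F) → (ι → F), ∀ x,
      P x = ((h⁻¹ : GL ι F) : Matrix ι ι F) *ᵥ T ((h : Matrix ι ι F) *ᵥ x) := ⟨_, fun _ => rfl⟩
  have hPa : P a = (1 - 2 * ν * κ ^ 2) • a + ((2 * κ) • J b + (-(2 * ν * κ ^ 2)) • b) := by
    have e1 : f (J a) v = -κ := by rw [E.skew, hκ]
    have e2 : f (J b) v = κ := by rw [E.skew, hbJv, neg_neg]
    have e3 : f (J a) (J v) = 0 := by rw [E.jj, hav, mul_zero, neg_zero]
    have e4 : f (J b) (J v) = 0 := by rw [E.jj, hbv, mul_zero, neg_zero]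
    have hJv : J v = J a + J b := by rw [← map_add, ← hva]
    have eh : (h : Matrix ι ι F) *ᵥ a = a + (-κ) • (J a + J b) := by
      rw [hh, E.tri_mulVec B.vv, hav, ← hκ, ← hJv]
      module
    have eT : T ((h : Matrix ι ι F) *ᵥ a) = a + (-κ) • J a + κ • J b := by
      rw [eh, map_add, map_smul, map_add, hTa, hTJ, hTJ, hTa, hTb, map_neg]
      module
    rw [hP, eT, hh, E.tri_inv B.vv, E.tri_mulVec B.vv]
    simp only [add_left' hf, smul_left' hf, hav, ← hκ, e1, e2, e3, e4]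
    rw [hJv, show v = a + b from hva]
    module
  refine hno ?_
  have hg' : g * h * g⁻¹ ∈ M := M.mul_mem (M.mul_mem hg hhM) (M.inv_mem hg)
  have hgi' : Iso f (g * h * g⁻¹) := (hgi.mul hhi).mul hgi.inv
  have hnot : ¬ ∀ x, J (((g * h * g⁻¹)⁻¹ : GL ι F) *ᵥ J (((g * h * g⁻¹ : GL ι F) : Matrix ι ι F) *ᵥ x)) =
      ((g * h * g⁻¹)⁻¹ : GL ι F) *ᵥ J (((g * h * g⁻¹ : GL ι F) : Matrix ι ι F) *ᵥ J x) := by
    intro hall
    have hhJ : ∀ y, ((h⁻¹ : GL ι F) : Matrix ι ι F) *ᵥ J y = J (((h⁻¹ : GL ι F) : Matrix ι ι F) *ᵥ y) := fun y => by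
      rw [hh, E.tri_inv B.vv, E.tri_mulVec B.vv, E.tri_mulVec B.vv, E.skew, E.skew, E.sq, smul_right' hf, map_add,
        map_add, map_smul, map_smul, E.sq]
      module
    have hhJ' : ∀ y, (h : Matrix ι ι F) *ᵥ J y = J ((h : Matrix ι ι F) *ᵥ y) := fun y => by
      refine mulVec_injective h⁻¹ ?_
      simp only [hhJ, inv_mulVec_cancel]
    have hconj : ∀ y, (((g * h * g⁻¹)⁻¹ : GL ι F) : Matrix ι ι F) *ᵥ
        J (((g * h * g⁻¹ : GL ι F) : Matrix ι ι F) *ᵥ ((g : Matrix ι ι F) *ᵥ y)) =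
          (g : Matrix ι ι F) *ᵥ J (P y) := fun y => by
      rw [show (g * h * g⁻¹)⁻¹ = g * h⁻¹ * g⁻¹ by group, mul_mulVec, mul_mulVec, mul_mulVec, mul_mulVec,
        inv_mulVec_cancel, hP, ← hJ₂, hJT, hhJ]
    have hstep : ∀ z, J₂ (J (P z)) = J (P (J₂ z)) := fun z => by
      have e := hall ((g : Matrix ι ι F) *ᵥ z)
      rw [hconj, ← hgJ, ← hgJ z, hconj] at e
      exact mulVec_injective g e
    have hlinP : ∀ y, P (J y) = J (P y) := fun y => by
      rw [hP, hP, hhJ', hTJ, hhJ]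
    have hcommP : ∀ z, T (P z) = P (T z) := fun z => by
      have e := hstep z
      rw [hJT, hJT, hTJ, E.sq, hlinP, E.sq] at e
      exact smul_right_injective _ hν e
    have e := hcommP a
    rw [hTa, hPa, map_add, map_add, map_smul, map_smul, map_smul, hTa, hTJ, hTb, map_neg, smul_neg, smul_neg,
      add_right_inj] at e
    have e' : (-(2 * ν * κ ^ 2) * 2) • b + (2 * κ * 2) • J b = 0 := by
      rw [← sub_eq_zero.mpr e.symm]; module
    exact mul_ne_zero (mul_ne_zero h2 hκ0) h2 (E.indep hb0 e').2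
  refine (E.full_or_commute hM ht₀ ht₀1 (B.v_ne E) B.vv hg' hgi' fun hnj => hnot fun x => ?_).resolve_right hnot
  obtain ⟨ε, hε, hnj⟩ := hnj
  have hinv : ∀ y, (((g * h * g⁻¹)⁻¹ : GL ι F) : Matrix ι ι F) *ᵥ J (((g * h * g⁻¹ : GL ι F) : Matrix ι ι F) *ᵥ y) =
      ε • J y := fun y => by
    refine mulVec_injective (g * h * g⁻¹) ?_
    simp only [mulVec_inv_cancel, mulVec_smul, hnj, smul_smul, hε, one_smul]
  rw [hinv, hinv, map_smul]

end QJ

end CfsgLib.SpFourOdd
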