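/-
Normalisers of adjoint-closed, not self-adjoint quadratic field subalgebras are maximal in four-dimensional
symplectic groups, q ≥ 5 odd.
-/
import Cfsg.Agent.Lib.SpFourOdd.Unit
import Cfsg.Agent.Lib.SpFourOdd.LeviMax
import Cfsg.Agent.Lib.Classical22.UnitOverFinal

set_option autoImplicit false
set_option linter.all false
open Cfsg

namespace CfsgLib.SpFourOdd

open CfsgLib.Transvec Matrix
open scoped MatrixGroups

section

variable {ι : Type} [Fintype ι] [DecidableEq ι] {F : Type*} [Field F] {f : (ι → F) → (ι → F) → F}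
variable {J : (ι → F) →ₗ[F] (ι → F)} {ν : F}

lemma exists_isotropic [Fintype F] (E : QJ f J ν) (hodd : Odd (Fintype.card F)) :
    ∃ v, v ≠ 0 ∧ f (J v) v = 0 := by
  classical
  have hf := E.symp
  have h2 := E.two
  have hν := E.nu_ne
  haveI : Nonempty ι := Fintype.card_pos_iff.mp (by rw [E.card]; norm_num)
  obtain ⟨x, hx⟩ := exists_ne (0 : ι → F)
  by_cases hφ : f (J x) x = 0
  · exact ⟨x, hx, hφ⟩
  obtain ⟨y, hy⟩ := SetLike.exists_not_mem_of_ne_top (Submodule.span F ({x, J x} : Set (ι → F))) (fun e => by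
    have h1 := finrank_span_le_card (R := F) ({x, J x} : Set (ι → F))
    rw [e, finrank_top, Module.finrank_fintype_fun_eq_card, E.card, Set.toFinset_insert, Set.toFinset_singleton] at h1
    have h3 : ({x, J x} : Finset (ι → F)).card ≤ 2 := Finset.card_le_two
    omega) rfl
  obtain ⟨φ, hφd⟩ : ∃ φ, φ = f (J x) x := ⟨_, rfl⟩
  have hxJ : f x (J x) = -φ := by rw [E.xjx, hφd]
  obtain ⟨z, hz⟩ : ∃ z, z = y - (f (J y) x / φ) • x - (f y x / φ) • J x := ⟨_, rfl⟩
  have hz0 : z ≠ 0 := fun h => hy (Submodule.mem_span_pair.mpr ⟨f (J y) x / φ, f y x / φ, by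
    rw [hz, sub_sub, sub_eq_zero] at h
    exact h.symm⟩)
  have hφ0 : φ ≠ 0 := hφd ▸ hφ
  have hz1 : f (J z) x = 0 := by
    rw [hz, map_sub, map_sub, map_smul, map_smul, E.sq]
    simp only [sub_left' hf, smul_left' hf, hf.alternating, ← hφd]
    field_simp; ring
  have hz2 : f z x = 0 := by
    rw [hz]
    simp only [sub_left' hf, smul_left' hf, hf.alternating, ← hφd]
    field_simp; ring
  obtain ⟨a, b, hab⟩ : ∃ a b : F, a * a - ν * (b * b) = -(f (J z) z) / φ := by
    have h1 : (Polynomial.X ^ 2 - Polynomial.C (-(f (J z) z) / φ) : Polynomial F).degree = 2 :=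
      Polynomial.degree_X_pow_sub_C two_pos _
    have h3 : (Polynomial.C (-ν) * Polynomial.X ^ 2 : Polynomial F).degree = 2 :=
      Polynomial.degree_C_mul_X_pow 2 (neg_ne_zero.mpr hν)
    obtain ⟨a, b, h⟩ := FiniteField.exists_root_sum_quadratic h1 h3 (Nat.odd_iff.mp hodd)
    simp only [Polynomial.eval_sub, Polynomial.eval_pow, Polynomial.eval_X, Polynomial.eval_C,
      Polynomial.eval_mul] at h
    exact ⟨a, b, by linear_combination h⟩
  refine ⟨a • x + b • J x + z, fun h0 => hy ?_, ?_⟩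
  · refine Submodule.mem_span_pair.mpr ⟨f (J y) x / φ - a, f y x / φ - b, ?_⟩
    rw [hz] at h0
    rw [← sub_eq_zero, ← neg_eq_zero, ← h0]
    module
  · rw [map_add, map_add, map_smul, map_smul, E.sq]
    simp only [add_left' hf, add_right' hf, smul_left' hf, smul_right' hf, hf.alternating, hxJ, ← hφd,
      hf.skew x z, hz1, hz2, E.jsymm x z, E.skew z x, hf.skew (J x) z]
    have e : f z (J x) = 0 := by rw [← neg_neg (f z (J x)), ← E.skew, hz1, neg_zero]
    rw [E.jj z x, hz2]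
    field_simp at hab
    linear_combination hab

/-- All vectors are full as soon as one isotropic vector is. -/
theorem QJ.spread (E : QJ f J ν) {M : Subgroup (GL ι F)} (hM : ∀ h : GL ι F, Iso f h → NJ J h → h ∈ M)
    {u : ι → F} (hu0 : u ≠ 0) (hu : f (J u) u = 0) (hfull : Full f M u) : ∀ x, Full f M x := by
  have hf := E.symp
  obtain ⟨z, B⟩ := E.exists_fr hu0 hu
  have hiso : ∀ x, f (J x) x = 0 → Full f M x := by
    intro x hx
    by_cases hx0 : x = 0
    · rw [hx0]; exact full_zero hf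
    obtain ⟨w, B'⟩ := E.exists_fr hx0 hx
    obtain ⟨h, hi, hv, -, hJ⟩ := B.exists_map E B' (one_mul 1)
    exact hv ▸ full_conj hf (hM h hi ⟨1, one_mul 1, hJ⟩) hi hfull
  obtain ⟨t1, t2, t3, t4, t5, t6, t7, t8⟩ := B.table E
  intro x
  rw [B.expand E x, add_assoc]
  obtain ⟨a, ha⟩ : ∃ a, a = f x z • u + (-(f x (J z) / ν)) • J u := ⟨_, rfl⟩
  obtain ⟨b, hb⟩ : ∃ b, b = (-f x u) • z + (f x (J u) / ν) • J z := ⟨_, rfl⟩
  rw [← ha, ← hb]
  have hA : ∀ c d : F, Full f M (c • u + d • J u) := fun c d => hiso _ (by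
    rw [map_add, map_smul, map_smul, E.sq]
    simp only [add_left' hf, add_right' hf, smul_left' hf, smul_right' hf, hf.alternating, B.vv, t1]
    ring)
  have hB : ∀ c d : F, Full f M (c • z + d • J z) := fun c d => hiso _ (by
    rw [map_add, map_smul, map_smul, E.sq]
    simp only [add_left' hf, add_right' hf, smul_left' hf, smul_right' hf, hf.alternating, B.ww, t2]
    ring)
  have hfa : Full f M a := ha ▸ hA _ _
  have hfb : Full f M b := hb ▸ hB _ _
  by_cases hab : f a b = 0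
  swap
  · simpa using full_add_smul hf hfa hfb hab 1
  by_cases hb0 : b = 0
  · rw [hb0, add_zero]; exact hfa
  -- go through a vector of the first plane paired with b
  obtain ⟨c, d, hcd⟩ : ∃ c d : F, f (c • u + d • J u) b ≠ 0 := by
    by_contra h
    simp only [not_exists, not_not] at h
    have e1 := h 1 0
    have e2 := h 0 1
    simp only [hb, one_smul, zero_smul, add_zero, zero_add, add_right' hf, smul_right' hf, B.vw, B.jvw, t4, t7,
      mul_zero, mul_one] at e1 e2
    refine hb0 ?_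
    rw [hb, e1]
    have : f x (J u) / ν = 0 := by
      rcases mul_eq_zero.mp e2 with e | e
      · exact e
      · exact absurd e (neg_ne_zero.mpr E.nu_ne)
    rw [this, zero_smul, zero_smul, add_zero]
  obtain ⟨a₁, ha₁⟩ : ∃ a₁, a₁ = c • u + d • J u := ⟨_, rfl⟩
  rw [← ha₁] at hcd
  have h1 := full_add_smul hf (show Full f M a₁ from ha₁ ▸ hA c d) hfb hcd 1
  rw [one_smul] at h1
  have haa : f a₁ a = 0 := by
    rw [ha, ha₁]
    simp only [add_left' hf, add_right' hf, smul_left' hf, smul_right' hf, hf.alternating, B.vv, t1]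
    ring
  have h3 : f (a₁ + b) (a - a₁) ≠ 0 := by
    rw [add_left' hf, sub_right' hf, sub_right' hf, hf.alternating, haa, hf.skew b a, hab, hf.skew b a₁]
    simpa using hcd
  have h4 := full_add_smul hf h1 (show Full f M (a - a₁) by
    convert hA (f x z - c) (-(f x (J z) / ν) - d) using 1
    rw [ha, ha₁]; module) h3 1
  rwa [one_smul, show a₁ + b + (a - a₁) = a + b by abel] at h4

end

/-- The normaliser of an adjoint-closed, not self-adjoint quadratic field subalgebra. -/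
theorem isMaximalIn_unitary {F : Type*} [Field F] [Fintype F] (hodd : Odd (Fintype.card F))
    (h5 : 5 ≤ Fintype.card F) (K : Subalgebra F (Matrix (Fin 2 ⊕ Fin 2) (Fin 2 ⊕ Fin 2) F))
    (hK : Cfsg.Geo.IsFieldSubalgebra 2 K) (hac : Cfsg.Geo.IsAdjointClosedFor (Cfsg.sympForm 2 F) K)
    (hnsa : ¬ Cfsg.Geo.IsSelfAdjointFor (Cfsg.sympForm 2 F) K) :
    Cfsg.Geo.IsMaximalIn (Cfsg.spGL 2 F) (Cfsg.Geo.subalgebraNormalizer K ⊓ Cfsg.spGL 2 F) := by
  classical
  have hf := isSymplecticForm_sympForm (F := F) 2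
  have h2 : (2 : F) ≠ 0 := fun h => by
    haveI : CharP F 2 := CharTwo.of_one_ne_zero_of_two_eq_zero one_ne_zero h
    have := FiniteField.even_card_of_char_two (ringChar.eq F 2)
    rw [Nat.odd_iff] at hodd
    omega
  haveI : Nontrivial K := Module.nontrivial_of_finrank_pos (R := F) (by rw [hK.finrank_eq]; norm_num)
  -- a generator
  obtain ⟨θ, hθK, hθ⟩ : ∃ θ ∈ K, ∀ t : F, θ ≠ algebraMap F _ t := by
    by_contra h
    simp only [not_exists, not_and, not_forall, not_not] at h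
    have h1 : Subalgebra.toSubmodule K ≤ Submodule.span F {(1 : Matrix (Fin 2 ⊕ Fin 2) (Fin 2 ⊕ Fin 2) F)} := fun k hk => by
      obtain ⟨t, ht⟩ := h k hk
      exact Submodule.mem_span_singleton.mpr ⟨t, by rw [ht, Algebra.algebraMap_eq_smul_one]⟩
    have h3 := (Submodule.finrank_mono h1).trans (finrank_span_le_card (R := F) _)
    rw [Set.toFinset_singleton, Finset.card_singleton] at h3
    have h4 := hK.finrank_eq
    change Module.finrank F (Subalgebra.toSubmodule K) = 2 at h4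
    omega
  have hspan : ∀ η ∈ K, (∀ t : F, η ≠ algebraMap F _ t) → ∀ k ∈ K, ∃ a b : F,
      k = a • (1 : Matrix (Fin 2 ⊕ Fin 2) (Fin 2 ⊕ Fin 2) F) + b • η := by
    intro η hη hη' k hk
    have hind : LinearIndependent F ![(⟨1, one_mem K⟩ : K), ⟨η, hη⟩] :=
      (LinearIndependent.pair_iff' (by simp [Subtype.ext_iff])).mpr fun a e =>
        hη' a (by rw [Algebra.algebraMap_eq_smul_one]; exact (congrArg Subtype.val e).symm)
    have hk' : (⟨k, hk⟩ : K) ∈ Submodule.span F (Set.range ![(⟨1, one_mem K⟩ : K), ⟨η, hη⟩]) := by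
      rw [hind.span_eq_top_of_card_eq_finrank (by rw [Fintype.card_fin, hK.finrank_eq])]; trivial
    rw [Matrix.range_cons, Matrix.range_cons, Matrix.range_empty, Set.union_empty, Set.singleton_union] at hk'
    obtain ⟨a, b, h⟩ := Submodule.mem_span_pair.mp hk'
    exact ⟨a, b, (congrArg Subtype.val h).symm⟩
  obtain ⟨d, c, hdc⟩ := hspan θ hθK hθ (θ * θ) (mul_mem hθK hθK)
  obtain ⟨η, hη⟩ : ∃ η, η = θ - (c / 2) • (1 : Matrix (Fin 2 ⊕ Fin 2) (Fin 2 ⊕ Fin 2) F) := ⟨_, rfl⟩
  obtain ⟨ν, hν⟩ : ∃ ν, ν = d + c * c / 4 := ⟨_, rfl⟩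
  have hηK : η ∈ K := hη ▸ sub_mem hθK (K.smul_mem (one_mem K) _)
  have h4 : (4 : F) ≠ 0 := by rw [show (4 : F) = 2 * 2 by norm_num]; exact mul_ne_zero h2 h2
  have hsq : η * η = ν • 1 := by
    rw [hη, sub_mul, mul_sub, mul_sub, hdc, hν]
    simp only [smul_mul_assoc, one_mul, mul_smul_comm, mul_one, smul_smul]
    match_scalars <;> field_simp <;> ring
  have hη' : ∀ t : F, η ≠ algebraMap F _ t := fun t e => hθ (t + c / 2) (by
    rw [map_add, ← e, hη, Algebra.algebraMap_eq_smul_one, sub_add_cancel])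
  have hscal : ∀ t : F, (t • (1 : Matrix (Fin 2 ⊕ Fin 2) (Fin 2 ⊕ Fin 2) F)) ∈ K := fun t => K.smul_mem (one_mem K) t
  have hnsq : ∀ t : F, t * t ≠ ν := fun t ht => by
    have e : (η - t • 1) * (η + t • 1) = 0 := by
      rw [sub_mul, mul_add, mul_add, hsq, ← ht]
      simp only [smul_mul_assoc, one_mul, mul_smul_comm, mul_one, smul_smul]
      module
    by_cases h0 : η - t • 1 = 0
    · exact hη' t (by rw [Algebra.algebraMap_eq_smul_one]; exact sub_eq_zero.mp h0)
    obtain ⟨y, hy, hy'⟩ := hK.inv _ (sub_mem hηK (hscal t)) h0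
    have h1 : η + t • (1 : Matrix (Fin 2 ⊕ Fin 2) (Fin 2 ⊕ Fin 2) F) = 0 := by
      rw [hK.comm _ (sub_mem hηK (hscal t)) y hy] at hy'
      have e' := congrArg (fun z => y * z) e
      simp only [mul_zero, ← mul_assoc, hy', one_mul] at e'
      exact e'
    exact hη' (-t) (by rw [Algebra.algebraMap_eq_smul_one, neg_smul]; exact eq_neg_of_add_eq_zero_left h1)
  obtain ⟨J, hJ⟩ : ∃ J : (Fin 2 ⊕ Fin 2 → F) →ₗ[F] (Fin 2 ⊕ Fin 2 → F), ∀ x, J x = η *ᵥ x :=
    ⟨Matrix.toLin' η, fun x => Matrix.toLin'_apply _ _⟩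
  have hJsq : ∀ x, J (J x) = ν • x := fun x => by rw [hJ, hJ, mulVec_mulVec, hsq, smul_mulVec, one_mulVec]
  have hact : ∀ k ∈ K, ∃ a b : F, ∀ x, k *ᵥ x = a • x + b • J x := fun k hk => by
    obtain ⟨a, b, e⟩ := hspan η hηK hη' k hk
    exact ⟨a, b, fun x => by rw [e, add_mulVec, smul_mulVec, smul_mulVec, one_mulVec, hJ]⟩
  have hν0 : ν ≠ 0 := fun h => hnsq 0 (by rw [mul_zero, h])
  have hind : ∀ {x : Fin 2 ⊕ Fin 2 → F} {a b : F}, x ≠ 0 → a • x + b • J x = 0 → a = 0 ∧ b = 0 := by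
    intro x a b hx h
    have h' := congrArg J h
    rw [map_add, map_smul, map_smul, hJsq, map_zero] at h'
    have e : (a * a - b * b * ν) • x = 0 := by
      have : a • (a • x + b • J x) - b • (a • J x + b • ν • x) = 0 := by rw [h, h']; simp
      rw [← this]; module
    have e' := (smul_eq_zero.mp e).resolve_right hx
    by_cases hb : b = 0
    · rw [hb, zero_smul, add_zero] at h
      exact ⟨(smul_eq_zero.mp h).resolve_right hx, hb⟩
    exact absurd (show a / b * (a / b) = ν by field_simp; linear_combination e') (hnsq _)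
  obtain ⟨k', hk', hadj⟩ := hac η hηK
  obtain ⟨a, b, hab⟩ := hact k' hk'
  have hadj' : ∀ x y, Cfsg.sympForm 2 F (J x) y = Cfsg.sympForm 2 F x (a • y + b • J y) := fun x y => by
    rw [hJ, hadj, hab]
  haveI : Nonempty (Fin 2 ⊕ Fin 2) := ⟨.inl 0⟩
  obtain ⟨y₀, hy₀⟩ := exists_ne (0 : Fin 2 ⊕ Fin 2 → F)
  have hco : ∀ z : Fin 2 ⊕ Fin 2 → F, (∀ x, Cfsg.sympForm 2 F x z = 0) → z = 0 := fun z hz => by
    by_contra h
    obtain ⟨x, hx⟩ := (hf.nondegenerate z h).1
    exact hx (hz x)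
  have hsqadj : a * a + b * b * ν - ν = 0 ∧ 2 * a * b = 0 := hind hy₀ (hco _ fun x => by
    have e1 : Cfsg.sympForm 2 F (J (J x)) y₀ = ν * Cfsg.sympForm 2 F x y₀ := by rw [hJsq, smul_left' hf]
    rw [hadj', hadj'] at e1
    simp only [map_add, map_smul, hJsq, add_right' hf, smul_right' hf] at e1 ⊢
    linear_combination e1)
  have hb0 : b ≠ 0 := fun h => hnsq a (by rw [h] at hsqadj; linear_combination hsqadj.1)
  have ha0 : a = 0 := by
    have := (mul_eq_zero.mp hsqadj.2).resolve_right hb0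
    exact (mul_eq_zero.mp this).resolve_left h2
  have hb1 : b = -1 := by
    have e : (b - 1) * (b + 1) = 0 := by
      have := hsqadj.1
      rw [ha0] at this
      exact (mul_eq_zero.mp (show (b - 1) * (b + 1) * ν = 0 by linear_combination this)).resolve_right hν0
    rcases mul_eq_zero.mp e with e | e
    · refine absurd (fun k hk u v => ?_) hnsa
      obtain ⟨p, q, hpq⟩ := hact k hk
      rw [hpq, hpq, add_left' hf, smul_left' hf, smul_left' hf, hadj', ha0, sub_eq_zero.mp e, one_smul, zero_smul,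
        zero_add, add_right' hf, smul_right' hf, smul_right' hf]
    · exact eq_neg_of_add_eq_zero_left e
  have E : QJ (Cfsg.sympForm 2 F) J ν := ⟨hf, hJsq, fun x y => by
    rw [hadj', ha0, hb1, zero_smul, zero_add, neg_one_smul, ← neg_one_smul F (J y), smul_right' hf, neg_one_mul],
    hnsq, h2, by simp⟩
  have hnj : ∀ g : GL (Fin 2 ⊕ Fin 2) F, NJ J g → g ∈ Cfsg.Geo.subalgebraNormalizer K := fun g ⟨ε, hε, hg⟩ =>
    CfsgLib.Classical22.UnitOver.mem_normalizer_of_semi fun k hk => by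
      obtain ⟨p, q, hpq⟩ := hact k hk
      refine ⟨p • 1 + (ε * q) • η, add_mem (hscal p) (K.smul_mem hηK _), fun x => ?_⟩
      rw [hpq, add_mulVec, smul_mulVec, smul_mulVec, one_mulVec, ← hJ, mulVec_add, mulVec_smul, mulVec_smul, hg,
        smul_smul, mul_comm q ε]
  obtain ⟨v, hv0, hv⟩ := exists_isotropic E hodd
  obtain ⟨w, B⟩ := E.exists_fr hv0 hv
  refine ⟨lt_of_le_not_ge inf_le_right fun hle => ?_, fun M hHM hMK => ?_⟩
  · obtain ⟨k', hk', h'⟩ :=
      CfsgLib.Classical22.UnitOver.semi_of_mem_normalizer (hle (sT_mem_spGL 2 v 1)).1 hηK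
    obtain ⟨p, q, hpq⟩ := hact k' hk'
    obtain ⟨t1, t2, t3, t4, t5, t6, t7, t8⟩ := B.table E
    have e1 := h' v
    have e2 := h' w
    rw [← hJ, hpq, sT_mulVec hf, sT_mulVec hf, B.vv, hf.alternating, mul_zero, zero_smul, add_zero, add_zero] at e1
    rw [← hJ, hpq, sT_mulVec hf, sT_mulVec hf, t3, t6, mul_zero, zero_smul, add_zero] at e2
    have := hind hv0 (show p • v + (q - 1) • J v = 0 by rw [sub_smul, one_smul, ← add_sub_assoc, ← e1, sub_self])
    rw [this.1, sub_eq_zero.mp this.2, zero_smul, zero_add, one_smul, one_mul, neg_one_smul, ← sub_eq_add_neg,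
      map_sub, eq_comm, sub_eq_self] at e2
    exact hv0 (by
      have := congrArg J e2
      rw [hJsq, map_zero] at this
      exact (smul_eq_zero.mp this).resolve_left hν0)
  have hM : ∀ h : GL (Fin 2 ⊕ Fin 2) F, Iso (Cfsg.sympForm 2 F) h → NJ J h → h ∈ M := fun h hi hn =>
    hHM ⟨hnj h hn, hi⟩
  by_cases hMN : M ≤ Cfsg.Geo.subalgebraNormalizer K
  · exact Or.inl (le_antisymm (le_inf hMN hMK) hHM)
  right
  obtain ⟨g, hgM, hg⟩ := SetLike.not_le_iff_exists.mp hMN
  obtain ⟨t₀, ht₀, ht₀1⟩ := exists_sq_ne_one h5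
  obtain ⟨u, hu0, hu, hfull⟩ := E.exists_full hM ht₀ ht₀1 B hgM (hMK hgM) fun h => hg (hnj g h)
  exact le_antisymm hMK (spGL_le_of_full (E.spread hM hu0 hu hfull))

end CfsgLib.SpFourOdd
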